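import Cfsg.Agent.Lib.Dickson.Orders
import Cfsg.Agent.Lib.Dickson.CentralizerCard
import Cfsg.Agent.Lib.Spec.PSLTwoSpectrum
import Cfsg.Agent.S0813
import Mathlib.GroupTheory.GroupAction.CardCommute

/-!
# Automorphisms of `PSL₂(2^a)` transitive on the four-subgroups of a Sylow two-subgroup

Then `a` is 2, 3 or 5: the number of four-subgroups divides `a(2^a - 1)`.
-/

set_option autoImplicit false
set_option linter.unusedSectionVars false
set_option linter.style.haveILetI false

namespace Cfsg.Lib.SimpleAbTwo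

open Subgroup Matrix
open scoped Pointwise

universe u

/-- The ordered pairs of distinct nontrivial elements over the four-subgroups. -/
theorem card_fours_mul_six {L : Type u} [Group L] [Finite L] (S : Subgroup L)
    (hsq : ∀ x ∈ S, x * x = 1) :
    Nat.card {K : Subgroup L // K ≤ S ∧ Nat.card K = 4} * 6 = (Nat.card S - 1) * (Nat.card S - 2) := by
  classical
  haveI := Fintype.ofFinite L
  haveI := Fintype.ofFinite (Subgroup L)
  set X := (Finset.univ : Finset (Subgroup L)).filter (fun K => K ≤ S ∧ Nat.card K = 4) with hX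
  set A : Subgroup L → Finset L := fun K => (Finset.univ.filter fun x => x ∈ K).erase 1 with hA
  have hAcard : ∀ K : Subgroup L, (A K).card = Nat.card K - 1 := fun K => by
    rw [hA, Finset.card_erase_of_mem (by simp), ← Fintype.card_subtype, ← Nat.card_eq_fintype_card]
  have hmemA : ∀ (K : Subgroup L) (x : L), x ∈ A K ↔ x ∈ K ∧ x ≠ 1 := fun K x => by
    simp [hA, and_comm]
  have hmaps : ∀ p ∈ (A S).offDiag, closure ({p.1, p.2} : Set L) ∈ X := by
    intro p hp
    rw [Finset.mem_offDiag, hmemA, hmemA] at hp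
    obtain ⟨⟨hu, hu1⟩, ⟨hv, hv1⟩, huv⟩ := hp
    have hcomm : p.2 * p.1 = p.1 * p.2 := by
      have h := hsq _ (mul_mem hu hv)
      calc p.2 * p.1 = p.1 * p.1 * (p.2 * p.1) * (p.2 * p.2) := by
            rw [hsq _ hu, hsq _ hv, one_mul, mul_one]
        _ = p.1 * (p.1 * p.2 * (p.1 * p.2)) * p.2 := by group
        _ = p.1 * p.2 := by rw [h, mul_one]
    rw [hX, Finset.mem_filter]
    refine ⟨Finset.mem_univ _, (closure_le S).2 (by
      intro x hx; rcases hx with rfl | rfl <;> assumption), ?_⟩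
    let V : Subgroup L :=
      { carrier := {x | x = 1 ∨ x = p.1 ∨ x = p.2 ∨ x = p.1 * p.2}
        one_mem' := Or.inl rfl
        inv_mem' := by
          intro x hx
          have hxS : x ∈ S := by
            rcases hx with rfl | rfl | rfl | rfl
            exacts [one_mem _, hu, hv, mul_mem hu hv]
          rwa [inv_eq_of_mul_eq_one_right (hsq x hxS)]
        mul_mem' := by
          have e1 := hsq _ hu
          have e2 := hsq _ hv
          have e3 : p.1 * (p.1 * p.2) = p.2 := by rw [← mul_assoc, e1, one_mul]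
          have e4 : p.2 * (p.1 * p.2) = p.1 := by rw [← mul_assoc, hcomm, mul_assoc, e2, mul_one]
          have e5 : p.1 * p.2 * p.1 = p.2 := by rw [mul_assoc, hcomm, e3]
          have e6 : p.1 * p.2 * p.2 = p.1 := by rw [mul_assoc, e2, mul_one]
          have e7 := hsq _ (mul_mem hu hv)
          intro x y hx hy
          rcases hx with rfl | rfl | rfl | rfl <;> rcases hy with rfl | rfl | rfl | rfl <;>
            simp only [Set.mem_setOf_eq, one_mul, mul_one, e1, e2, e3, e4, e5, e6, e7, hcomm,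
              true_or, or_true] }
    have hV : closure ({p.1, p.2} : Set L) = V := by
      refine le_antisymm ((closure_le V).2 ?_) ?_
      · intro x hx
        rcases hx with rfl | rfl
        exacts [Or.inr (Or.inl rfl), Or.inr (Or.inr (Or.inl rfl))]
      · intro x hx
        have h1 : p.1 ∈ closure ({p.1, p.2} : Set L) := subset_closure (Or.inl rfl)
        have h2 : p.2 ∈ closure ({p.1, p.2} : Set L) := subset_closure (Or.inr rfl)
        rcases hx with rfl | rfl | rfl | rfl
        exacts [one_mem _, h1, h2, mul_mem h1 h2]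
    rw [hV]
    show Nat.card ({1, p.1, p.2, p.1 * p.2} : Set L) = 4
    have h01 : p.1 * p.2 ≠ 1 := fun h => huv (by
      calc p.1 = p.1 * p.2 * p.2 := by rw [mul_assoc, hsq _ hv, mul_one]
        _ = p.2 := by rw [h, one_mul])
    rw [Nat.card_coe_set_eq, Set.ncard_insert_of_notMem (by simp [hu1.symm, hv1.symm, h01.symm]),
      Set.ncard_insert_of_notMem (by simp [huv, hv1]),
      Set.ncard_insert_of_notMem (by simp [hu1]), Set.ncard_singleton]
  have hfib : ∀ K ∈ X, ((A S).offDiag.filter fun p => closure ({p.1, p.2} : Set L) = K) = (A K).offDiag := by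
    intro K hK
    rw [hX, Finset.mem_filter] at hK
    ext p
    rw [Finset.mem_filter, Finset.mem_offDiag, Finset.mem_offDiag, hmemA, hmemA, hmemA, hmemA]
    constructor
    · rintro ⟨⟨hu, hv, huv⟩, rfl⟩
      exact ⟨⟨subset_closure (Or.inl rfl), hu.2⟩, ⟨subset_closure (Or.inr rfl), hv.2⟩, huv⟩
    · rintro ⟨hu, hv, huv⟩
      have hp : p ∈ (A S).offDiag := by
        rw [Finset.mem_offDiag, hmemA, hmemA]
        exact ⟨⟨hK.2.1 hu.1, hu.2⟩, ⟨hK.2.1 hv.1, hv.2⟩, huv⟩
      refine ⟨⟨⟨hK.2.1 hu.1, hu.2⟩, ⟨hK.2.1 hv.1, hv.2⟩, huv⟩, Subgroup.eq_of_le_of_card_ge ?_ ?_⟩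
      · refine (closure_le K).2 ?_
        intro x hx
        rcases hx with rfl | rfl
        exacts [hu.1, hv.1]
      · rw [hK.2.2]
        exact ((Finset.mem_filter.1 (hmaps p hp)).2.2).ge
  have h := Finset.card_eq_sum_card_fiberwise hmaps
  rw [Finset.sum_congr rfl fun K hK => by rw [hfib K hK, Finset.offDiag_card, hAcard,
    (Finset.mem_filter.1 hK).2.2], Finset.sum_const, smul_eq_mul, Finset.offDiag_card, hAcard] at h
  have hXc : Nat.card {K : Subgroup L // K ≤ S ∧ Nat.card K = 4} = X.card := by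
    rw [Nat.card_eq_fintype_card, Fintype.card_subtype, hX]
  rw [hXc]
  norm_num at h
  rw [← h, Nat.card_eq_fintype_card, ← Nat.mul_sub_one, Nat.sub_sub]

variable {F : Type} [Field F] [Fintype F]

local notation "PSL2" => ProjectiveSpecialLinearGroup (Fin 2) F

theorem sylow_sq {a : ℕ} (ha : 2 ≤ a) (hF : Fintype.card F = 2 ^ a) [CharP F 2] (P : Sylow 2 PSL2) :
    ∀ x ∈ (P : Subgroup PSL2), x * x = 1 := by
  haveI : Fact (Nat.Prime 2) := ⟨Nat.prime_two⟩
  intro x hx
  obtain ⟨k, hk⟩ := IsPGroup.iff_orderOf.1 P.isPGroup' ⟨x, hx⟩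
  rw [← Subgroup.orderOf_coe] at hk
  have h4 : 4 ≤ Fintype.card F := hF ▸ (Nat.pow_le_pow_right two_pos ha)
  have hev : 2 ∣ Fintype.card F := hF ▸ dvd_pow_self 2 (by omega)
  have hm : orderOf x ∈ Set.range (orderOf : PSL2 → ℕ) := ⟨x, rfl⟩
  rw [Cfsg.Lib.Spec.psl_two_spectrum 2 h4] at hm
  rcases Nat.eq_zero_or_pos k with rfl | hk0
  · rw [show x = 1 from orderOf_eq_one_iff.1 (by simpa using hk), one_mul]
  have h2 : 2 ∣ orderOf x := hk ▸ dvd_pow_self 2 hk0.ne'
  rcases hm with h | h | h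
  · rw [← pow_two]; exact orderOf_dvd_iff_pow_eq_one.1 h
  · exfalso
    have := h2.trans (h.trans (Nat.div_dvd_of_dvd (Nat.gcd_dvd_right _ _)))
    omega
  · exfalso
    rw [Nat.Coprime.gcd_eq_one (Nat.coprime_two_left.2 (Nat.odd_iff.2 (by omega))), Nat.div_one] at h
    have := h2.trans h
    omega

/-- The exponent is 2, 3 or 5. -/
theorem exponent_cases {a : ℕ} (ha : 2 ≤ a) (hF : Fintype.card F = 2 ^ a) [CharP F 2] (P : Sylow 2 PSL2)
    (htrans : ∀ K K' : Subgroup PSL2, K ≤ P → K' ≤ P → Nat.card K = 4 → Nat.card K' = 4 →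
      ∃ β : MulAut PSL2, β • (P : Subgroup PSL2) = P ∧ β • K = K') :
    a = 2 ∨ a = 3 ∨ a = 5 := by
  classical
  haveI : Fact (Nat.Prime 2) := ⟨Nat.prime_two⟩
  haveI : Finite (MulAut PSL2) := Finite.of_injective (fun β : MulAut PSL2 => (β : PSL2 → PSL2))
    DFunLike.coe_injective
  set q := Fintype.card F with hq
  set S := (P : Subgroup PSL2) with hS
  set H := MulAction.stabilizer (MulAut PSL2) S with hH
  have hq4 : 4 ≤ q := hF ▸ (Nat.pow_le_pow_right two_pos ha)
  have hSc : Nat.card S = q := Cfsg.Lib.Dickson.card_sylow_psl 2 P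
  have hsq := sylow_sq ha hF P
  -- the orbit of the Sylow subgroup
  have horb : Nat.card (MulAction.orbit (MulAut PSL2) S) = q + 1 := by
    refine Eq.trans ?_ (P.card_eq_index_normalizer.trans (Cfsg.Lib.Dickson.index_normalizer_sylow_psl 2 P))
    symm
    refine Nat.card_eq_of_bijective (fun Q : Sylow 2 PSL2 => (⟨(Q : Subgroup PSL2), ?_⟩ :
      MulAction.orbit (MulAut PSL2) S)) ⟨fun Q R h => Sylow.ext (congrArg Subtype.val h), ?_⟩
    · obtain ⟨g, hg⟩ := MulAction.exists_smul_eq PSL2 P Q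
      exact ⟨MulAut.conj g, by rw [hS, ← hg]; rfl⟩
    · rintro ⟨T, β, rfl⟩
      obtain ⟨Q, hQ⟩ := (show IsPGroup 2 ↥(β • S) from P.isPGroup'.map β.toMonoidHom).exists_le_sylow
      refine ⟨Q, Subtype.ext (Subgroup.eq_of_le_of_card_ge hQ ?_).symm⟩
      show Nat.card (Q : Subgroup PSL2) ≤ Nat.card ↥(β • S)
      rw [Cfsg.Lib.Dickson.card_sylow_psl 2 Q, show β • S = S.map β.toMonoidHom from rfl,
        Subgroup.card_map_of_injective β.injective, hSc]
  have hAut : Nat.card (MulAut PSL2) = a * (q * (q ^ 2 - 1)) := by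
    rw [Cfsg.Agent.S0813.result (F := F) 2 a (by omega) hF 2 le_rfl (fun _ => hF ▸ hq4),
      if_pos rfl, one_mul, Cfsg.Lib.Dickson.card_PGL_two_eq]
  have hHc : Nat.card H = a * (q * (q - 1)) := by
    have h := MulAction.card_orbit_mul_card_stabilizer_eq_card_group (MulAut PSL2) S
    simp only [← Nat.card_eq_fintype_card] at h
    rw [horb, hAut, ← hH] at h
    refine Nat.eq_of_mul_eq_mul_left (show 0 < q + 1 by omega) (h.trans ?_)
    rw [show q ^ 2 - 1 = (q + 1) * (q - 1) by rw [← Nat.sq_sub_sq, one_pow]]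
    ring
  -- the four-subgroups
  set X := {K : Subgroup PSL2 // K ≤ S ∧ Nat.card K = 4}
  have hX6 : Nat.card X * 6 = (q - 1) * (q - 2) := hSc ▸ card_fours_mul_six S hsq
  haveI : Nonempty X := by
    refine (Nat.card_pos_iff.1 (Nat.pos_of_ne_zero fun h => ?_)).1
    rw [h, zero_mul] at hX6
    rcases Nat.mul_eq_zero.1 hX6.symm with h | h <;> omega
  obtain ⟨K₀, hK₀, hK₀c⟩ := Classical.arbitrary X
  have hXorb : Nat.card (MulAction.orbit H K₀) = Nat.card X := by
    refine Nat.card_congr (Equiv.subtypeEquivRight fun K => ⟨?_, ?_⟩)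
    · rintro ⟨⟨β, hβ⟩, rfl⟩
      refine ⟨fun x hx => ?_, ?_⟩
      · rw [← MulAction.mem_stabilizer_iff.1 hβ]
        exact Subgroup.pointwise_smul_le_pointwise_smul_iff.2 hK₀ hx
      · show Nat.card ↥(K₀.map β.toMonoidHom) = 4
        rw [Subgroup.card_map_of_injective β.injective, hK₀c]
    · rintro ⟨hK, hKc⟩
      obtain ⟨β, hβS, hβ⟩ := htrans K₀ K hK₀ hK hK₀c hKc
      exact ⟨⟨β, MulAction.mem_stabilizer_iff.2 hβS⟩, hβ⟩
  -- the stabilizer contains the inner automorphisms from the Sylow subgroup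
  have hcomm : ∀ x ∈ S, ∀ y ∈ S, x * y = y * x := fun x hx y hy => by
    have h := hsq _ (mul_mem hx hy)
    calc x * y = x * y * (x * y * (x * y))⁻¹ := by rw [h, inv_one, mul_one]
      _ = y⁻¹ * x⁻¹ := by group
      _ = y * x := by rw [inv_eq_of_mul_eq_one_right (hsq x hx), inv_eq_of_mul_eq_one_right (hsq y hy)]
  have hfix : ∀ s ∈ S, ∀ K ≤ S, MulAut.conj s • K = K := fun s hs K hK => by
    ext x
    rw [Subgroup.mem_smul_pointwise_iff_exists]
    constructor
    · rintro ⟨k, hk, rfl⟩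
      show s * k * s⁻¹ ∈ K
      rwa [hcomm s hs k (hK hk), mul_inv_cancel_right]
    · intro hx
      exact ⟨x, hx, show s * x * s⁻¹ = x by rw [hcomm s hs x (hK hx), mul_inv_cancel_right]⟩
  let ι : S →* MulAction.stabilizer H K₀ :=
    { toFun := fun s => ⟨⟨MulAut.conj (s : PSL2), MulAction.mem_stabilizer_iff.2 (hfix s s.2 S le_rfl)⟩,
        MulAction.mem_stabilizer_iff.2 (hfix s s.2 K₀ hK₀)⟩
      map_one' := Subtype.ext (Subtype.ext (by simp))
      map_mul' := fun s t => Subtype.ext (Subtype.ext (by simp)) }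
  have hι : Function.Injective ι := by
    refine (injective_iff_map_eq_one ι).2 fun s hs => ?_
    by_contra hne
    have h : MulAut.conj (s : PSL2) = 1 := congrArg (fun x : MulAction.stabilizer H K₀ => ((x : H) : MulAut PSL2)) hs
    have hcen : centralizer ({(s : PSL2)} : Set PSL2) = ⊤ := eq_top_iff.2 fun x _ => by
      rw [mem_centralizer_singleton_iff]
      have := congrArg (fun f : MulAut PSL2 => f x) h
      simp only [MulAut.conj_apply, MulAut.one_apply] at this
      exact (mul_inv_eq_iff_eq_mul.1 this).symm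
    rw [Cfsg.Lib.Dickson.centralizer_eq_sylow 2 P s.2 (fun e => hne (Subtype.ext e))] at hcen
    have h1 := Cfsg.Lib.Linear.Two.card_PSL_two (F := F)
    rw [← hq, ← Subgroup.card_top, ← hcen, ← hS, hSc,
      Nat.Coprime.gcd_eq_one (Nat.coprime_two_left.2 (Nat.odd_iff.2 (by
        have : 2 ∣ q := hF ▸ dvd_pow_self 2 (by omega)
        omega))), one_mul] at h1
    have : 15 ≤ q ^ 2 - 1 := by
      have : 16 ≤ q ^ 2 := by nlinarith
      omega
    nlinarith
  have hdvd : q * Nat.card X ∣ a * (q * (q - 1)) := by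
    have h := MulAction.card_orbit_mul_card_stabilizer_eq_card_group H K₀
    simp only [← Nat.card_eq_fintype_card] at h
    rw [hXorb, hHc] at h
    rw [← h, mul_comm q]
    exact Nat.mul_dvd_mul_left _ (hSc ▸ Subgroup.card_dvd_of_injective ι hι)
  rw [mul_left_comm] at hdvd
  have h6 := Nat.mul_dvd_mul_right (Nat.dvd_of_mul_dvd_mul_left (by omega : 0 < q) hdvd) 6
  rw [hX6, show a * (q - 1) * 6 = (q - 1) * (6 * a) by ring] at h6
  have hle := Nat.le_of_dvd (by omega) (Nat.dvd_of_mul_dvd_mul_left (by omega : 0 < q - 1) h6)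
  have hd := Nat.dvd_of_mul_dvd_mul_left (by omega : 0 < q - 1) h6
  rw [hF] at hle hd
  have ha5 : a ≤ 5 := by
    by_contra hlt
    obtain ⟨b, rfl⟩ := Nat.exists_eq_add_of_le (show 6 ≤ a by omega)
    have h1 := Nat.lt_two_pow_self (n := b)
    rw [pow_add] at hle
    norm_num at hle
    omega
  interval_cases a
  · exact Or.inl rfl
  · exact Or.inr (Or.inl rfl)
  · norm_num at hd
  · exact Or.inr (Or.inr rfl)

end Cfsg.Lib.SimpleAbTwo
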