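import Cfsg.Agent.Lib.SimpleAbTwo.Cases
import Cfsg.Agent.Lib.AllAb.False3
import Cfsg.Agent.Lib.ReeType.Main
import Cfsg.Agent.Lib.ReeType.Three
import Mathlib.Logic.Small.Basic

/-!
# Groups of Ree type have real and nonreal elements of order three
-/

set_option autoImplicit false
set_option linter.unusedSectionVars false
set_option linter.style.haveILetI false

namespace Cfsg.Lib.SimpleAbTwo

open Subgroup Cfsg Matrix
open Cfsg.Lib

universe u v

/-- Elements of order three, one real and one not real. -/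
def HasThreeReality (G : Type u) [Group G] : Prop :=
  (∃ x g : G, orderOf x = 3 ∧ g * x * g⁻¹ = x⁻¹) ∧
    ∃ y : G, orderOf y = 3 ∧ ∀ g : G, g * y * g⁻¹ ≠ y⁻¹

theorem HasThreeReality.of_equiv {G : Type u} [Group G] {H : Type v} [Group H] (e : G ≃* H)
    (h : HasThreeReality H) : HasThreeReality G := by
  obtain ⟨⟨x, g, hx, hg⟩, y, hy, hny⟩ := h
  refine ⟨⟨e.symm x, e.symm g, by rwa [MulEquiv.orderOf_eq],
    by rw [← map_inv e.symm g, ← map_mul, ← map_mul, hg, map_inv]⟩,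
    e.symm y, by rwa [MulEquiv.orderOf_eq], fun g hg => hny (e g) ?_⟩
  simpa using congrArg e hg

theorem not_real_threeSub {G L : Type} [Group G] [Group L] [Finite G] {n T : ℕ}
    (S : ReeType.Setup G L n T) {u : L} (hu : u ∈ S.D.U) (hu1 : u ≠ 1) (g : G) :
    g * S.φ u * g⁻¹ ≠ (S.φ u)⁻¹ := by
  classical
  haveI : Fact (Nat.Prime 2) := ⟨Nat.prime_two⟩
  intro hg
  haveI := S.finite_L
  have hy : S.φ u ∈ S.threeSub := ⟨u, hu, rfl⟩
  have hy1 : S.φ u ≠ 1 := fun h => hu1 (S.inj (h.trans (map_one S.φ).symm))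
  set C := centralizer ({S.φ u} : Set G) with hC
  have htC : S.t ∈ C := mem_centralizer_singleton_iff.2 (S.t_threeSub hy)
  obtain ⟨P, hP⟩ := S.sylow_two_order_two C htC fun c hc hct =>
    S.cent_t_three hy hy1 hct (mem_centralizer_singleton_iff.1 hc)
  have hgC : g * S.t * g⁻¹ ∈ C := by
    have hinv : g * (S.φ u)⁻¹ * g⁻¹ = S.φ u := by
      calc g * (S.φ u)⁻¹ * g⁻¹ = (g * S.φ u * g⁻¹)⁻¹ := by group
        _ = S.φ u := by rw [hg, inv_inv]
    rw [mem_centralizer_singleton_iff]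
    calc g * S.t * g⁻¹ * S.φ u = g * (S.t * (S.φ u)⁻¹) * g⁻¹ := by
          nth_rewrite 1 [← hinv]; group
      _ = g * ((S.φ u)⁻¹ * S.t) * g⁻¹ := by
          rw [(Commute.inv_right (S.t_threeSub hy) : Commute S.t (S.φ u)⁻¹).eq]
      _ = g * (S.φ u)⁻¹ * g⁻¹ * (g * S.t * g⁻¹) := by group
      _ = S.φ u * (g * S.t * g⁻¹) := by rw [hinv]
  -- a conjugate inside the centralizer
  set t' : C := ⟨g * S.t * g⁻¹, hgC⟩
  have ht' : orderOf t' = 2 := by
    rw [← Subgroup.orderOf_coe, show (t' : G) = MulAut.conj g S.t from rfl, MulEquiv.orderOf_eq,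
      S.orderOf_t]
  obtain ⟨Q, hQ⟩ := (IsPGroup.of_card (n := 1) (by rw [Nat.card_zpowers, ht', pow_one]) :
    IsPGroup 2 (zpowers t')).exists_le_sylow
  obtain ⟨c, hc⟩ := MulAction.exists_smul_eq C Q P
  have hm : c * t' * c⁻¹ ∈ (P : Subgroup C) := by
    rw [← hc, Sylow.coe_subgroup_smul]
    exact ⟨t', hQ (mem_zpowers t'), rfl⟩
  rw [hP] at hm
  obtain ⟨i, hi⟩ := mem_zpowers_iff.1 hm
  have hiG : S.t ^ i = (c : G) * (g * S.t * g⁻¹) * (c : G)⁻¹ := by
    simpa using congrArg Subtype.val hi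
  have hsq : S.t ^ (2 : ℤ) = 1 := by rw [zpow_two, S.t_sq]
  have heq : (c : G) * g * S.t * ((c : G) * g)⁻¹ = S.t := by
    rcases Int.even_or_odd i with ⟨r, rfl⟩ | ⟨r, rfl⟩
    · exfalso
      rw [← two_mul, _root_.zpow_mul, hsq, _root_.one_zpow] at hiG
      exact S.t_ne (conj_eq_one_iff.1 (conj_eq_one_iff.1 hiG.symm))
    · rw [_root_.zpow_add, _root_.zpow_mul, hsq, _root_.one_zpow, one_mul, zpow_one] at hiG
      nth_rewrite 2 [hiG]; group
  have hcy : (c : G) * S.φ u = S.φ u * c := mem_centralizer_singleton_iff.1 c.2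
  have hginv : (c : G) * g * S.φ u * ((c : G) * g)⁻¹ = (S.φ u)⁻¹ := by
    calc (c : G) * g * S.φ u * ((c : G) * g)⁻¹ = (c : G) * (g * S.φ u * g⁻¹) * (c : G)⁻¹ := by group
      _ = (c : G) * (S.φ u)⁻¹ * (c : G)⁻¹ := by rw [hg]
      _ = (S.φ u)⁻¹ := by rw [(Commute.inv_right (hcy : Commute (c : G) (S.φ u))).eq]; group
  obtain ⟨l, hl⟩ := S.cent _ (mul_inv_eq_iff_eq_mul.1 heq)
  have hl' : l * u * l⁻¹ = u⁻¹ := S.inj (by
    rw [map_mul, map_mul, map_inv, map_inv, ← hginv]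
    rcases hl with h | h <;> rw [h]
    calc S.φ l * S.φ u * (S.φ l)⁻¹ = S.φ (l * u * l⁻¹) := by rw [map_mul, map_mul, map_inv]
      _ = S.t * S.φ (l * u * l⁻¹) * S.t := by
          rw [S.comm (l * u * l⁻¹), mul_assoc (S.φ _), S.t_sq, mul_one]
      _ = S.t * S.φ l * S.φ u * (S.t * S.φ l)⁻¹ := by
          rw [_root_.mul_inv_rev, S.t_inv, map_mul, map_mul, map_inv]; group)
  -- no element of `L` inverts `u`
  have hl2 : l * l * u = u * (l * l) := by
    have h : l * l * u * (l * l)⁻¹ = u := by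
      calc l * l * u * (l * l)⁻¹ = l * (l * u * l⁻¹) * l⁻¹ := by group
        _ = l * u⁻¹ * l⁻¹ := by rw [hl']
        _ = (l * u * l⁻¹)⁻¹ := by group
        _ = u := by rw [hl', inv_inv]
    exact mul_inv_eq_iff_eq_mul.1 h
  set w := l * l * l with hw
  have hw2 : w * w = 1 := by
    have h := S.D.U_cube _ (S.D.cent_U u hu hu1 _ hl2)
    calc w * w = (l * l) ^ 3 := by rw [hw, pow_three]; group
      _ = 1 := h
  have hwu : w * u * w⁻¹ = u⁻¹ := by
    calc w * u * w⁻¹ = l * (l * l * u) * (l * l)⁻¹ * l⁻¹ := by rw [hw]; group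
      _ = l * u * l⁻¹ := by rw [hl2]; group
      _ = u⁻¹ := hl'
  have hwB : w ∈ S.D.B := S.D.norm_U w fun v hv => S.D.cent_U u⁻¹ (inv_mem hu) (inv_ne_one.2 hu1) _ (by
    rw [← hwu]
    calc w * v * w⁻¹ * (w * u * w⁻¹) = w * (v * u) * w⁻¹ := by group
      _ = w * (u * v) * w⁻¹ := by rw [S.D.U_comm v hv u hu]
      _ = w * u * w⁻¹ * (w * v * w⁻¹) := by group)
  have hBodd : Odd (Nat.card S.D.B) := by
    have h1 := S.D.card_B
    obtain ⟨hq8, -⟩ := S.q_facts
    obtain ⟨k, hk⟩ : ∃ k, 3 ^ (2 * n + 1) = 8 * k + 3 := ⟨3 ^ (2 * n + 1) / 8, by omega⟩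
    set B := Nat.card S.D.B with hB
    generalize 3 ^ (2 * n + 1) = q at h1 hk
    subst hk
    rw [show (8 * k + 3 - 1) = 8 * k + 2 by omega,
      show (8 * k + 3) * (8 * k + 2) = 2 * (32 * k * k + 20 * k + 3) by ring] at h1
    rw [Nat.eq_of_mul_eq_mul_left two_pos h1, Nat.odd_iff]
    have : (32 * k * k + 20 * k + 3) = 2 * (16 * k * k + 10 * k + 1) + 1 := by ring
    omega
  have hw1 : w = 1 := by
    have hd := Subgroup.orderOf_dvd_natCard _ hwB
    rcases (Nat.dvd_prime Nat.prime_two).1 (orderOf_dvd_of_pow_eq_one (show w ^ 2 = 1 by rw [pow_two, hw2]))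
      with h | h
    · exact orderOf_eq_one_iff.1 h
    · rw [h] at hd
      rw [Nat.odd_iff] at hBodd
      omega
  rw [hw1, one_mul, inv_one, mul_one] at hwu
  have h2 : u ^ 2 = 1 := by rw [pow_two]; nth_rewrite 2 [hwu]; rw [mul_inv_cancel]
  exact hu1 (by
    calc u = u ^ 3 * (u ^ 2)⁻¹ := by group
      _ = 1 := by rw [S.D.U_cube u hu, h2, inv_one, mul_one])

theorem hasThreeReality_type {G : Type} [Group G] [Finite G] [IsSimpleGroup G]
    (hna : ¬ IsMulCommutative G) {F : Type} [Field F] [Fintype F] {m : ℕ} (hm : 1 ≤ m)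
    (hF : Fintype.card F = 3 ^ (2 * m + 1)) {t : G} (ht : orderOf t = 2)
    (hidx : Odd (centralizer ({t} : Set G)).index)
    (e : centralizer ({t} : Set G) ≃*
      Multiplicative (ZMod 2) × ProjectiveSpecialLinearGroup (Fin 2) F) : HasThreeReality G := by
  classical
  haveI := Fintype.ofFinite G
  obtain ⟨T, ⟨S⟩⟩ := AllAb.exists_setup hm hF ht hidx e
  refine ⟨?_, ?_⟩
  · have hI : ¬ ReeType.NoInv G := fun hI => S.contradiction_of_noInv hna hI
    simp only [ReeType.NoInv, not_forall] at hI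
    obtain ⟨g, x, -, hgx, hx, hx1⟩ := hI
    haveI : Fact (Nat.Prime 3) := ⟨Nat.prime_three⟩
    exact ⟨x, g, orderOf_eq_prime hx hx1, hgx⟩
  · obtain ⟨y, ⟨u, hu, rfl⟩, hy1⟩ := S.exists_ne_one_threeSub
    haveI : Fact (Nat.Prime 3) := ⟨Nat.prime_three⟩
    have hu1 : u ≠ 1 := fun h => hy1 (by rw [h, map_one])
    exact ⟨S.φ u, orderOf_eq_prime (S.threeSub_cube ⟨u, hu, rfl⟩) hy1, not_real_threeSub S hu hu1⟩

/-- The statement for the third kind with the Ree order. -/
theorem hasThreeReality {G : Type u} [Group G] [Finite G] [IsSimpleGroup G]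
    (hna : ¬ IsMulCommutative G) {F : Type} [Field F] [Fintype F] {m : ℕ} (hm : 1 ≤ m)
    (hF : Fintype.card F = 3 ^ (2 * m + 1)) {t : G} (ht : orderOf t = 2)
    (hidx : Odd (centralizer ({t} : Set G)).index)
    (e : centralizer ({t} : Set G) ≃*
      Multiplicative (ZMod 2) × ProjectiveSpecialLinearGroup (Fin 2) F) : HasThreeReality G := by
  let σ : G ≃* Shrink.{0} G := Shrink.mulEquiv.symm
  haveI : Finite (Shrink.{0} G) := Finite.of_equiv G σ.toEquiv
  haveI : IsSimpleGroup (Shrink.{0} G) := σ.symm.isSimpleGroup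
  have hmap : (centralizer ({t} : Set G)).map σ.toMonoidHom = centralizer ({σ t} : Set (Shrink.{0} G)) := by
    ext x
    rw [Subgroup.mem_map_equiv, mem_centralizer_singleton_iff, mem_centralizer_singleton_iff,
      ← σ.injective.eq_iff, map_mul, map_mul, MulEquiv.apply_symm_apply]
  refine HasThreeReality.of_equiv σ (hasThreeReality_type (fun h => hna ⟨⟨fun a b => σ.injective (by
    rw [map_mul, map_mul]; exact h.is_comm.comm _ _)⟩⟩) hm hF (t := σ t)
    (by rw [MulEquiv.orderOf_eq, ht]) ?_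
    (((MulEquiv.subgroupCongr hmap.symm).trans
      (σ.subgroupMap (centralizer ({t} : Set G))).symm).trans e))
  rw [← hmap, Subgroup.index_map_of_bijective σ.bijective]
  exact hidx

end Cfsg.Lib.SimpleAbTwo
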