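import Cfsg.Agent.Lib.SimpleAbTwo.Cases
import Cfsg.Agent.Lib.SimpleAbTwo.ReeReal
import Cfsg.Agent.Lib.SimpleAbTwo.FourSubgroups
import Cfsg.Agent.Lib.Walter3.CaseSplit
import Cfsg.Agent.S1644
import Cfsg.Agent.S0205
import Cfsg.Agent.S0252
import Cfsg.Agent.S0253

/-!
# Simple normal subgroups when abelian subgroups of equal order are conjugate
-/

set_option autoImplicit false
set_option linter.unusedSectionVars false
set_option linter.style.haveILetI false

namespace Cfsg.Lib.SimpleAbTwo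

open Subgroup Cfsg Matrix
open Cfsg.Lib
open scoped Pointwise

universe u

variable {G : Type u} [Group G] [Finite G]

/-- Abelian subgroups of equal order are conjugate. -/
def ConjAbelian (G : Type u) [Group G] : Prop :=
  ∀ A B : Subgroup G, IsMulCommutative ↥A → IsMulCommutative ↥B → Nat.card ↥A = Nat.card ↥B →
    ∃ g : G, B = A.map (MulAut.conj g).toMonoidHom

/-- Two subgroups of an abelian Sylow subgroup that are conjugate are conjugate in its normalizer. -/
theorem exists_normalizer_map {p : ℕ} [Fact p.Prime] (P : Sylow p G)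
    (hP : IsMulCommutative (P : Subgroup G)) {K K' : Subgroup G} (hK : K ≤ (P : Subgroup G))
    (hK' : K' ≤ (P : Subgroup G)) {g : G} (hg : K' = K.map (MulAut.conj g).toMonoidHom) :
    ∃ n ∈ normalizer ((P : Subgroup G) : Set G), K' = K.map (MulAut.conj n).toMonoidHom := by
  set C := centralizer (K' : Set G) with hC
  have hcm : ∀ a ∈ (P : Subgroup G), ∀ b ∈ (P : Subgroup G), a * b = b * a := fun a ha b hb =>
    congrArg Subtype.val (hP.is_comm.comm (⟨a, ha⟩ : (P : Subgroup G)) ⟨b, hb⟩)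
  have hPC : (P : Subgroup G) ≤ C := fun x hx => mem_centralizer_iff.2 fun k hk =>
    (hcm x hx k (hK' hk)).symm
  have hgC : ((g • P : Sylow p G) : Subgroup G) ≤ C := by
    rw [Sylow.coe_subgroup_smul]
    rintro _ ⟨x, hx, rfl⟩
    refine mem_centralizer_iff.2 fun k hk => ?_
    rw [hg] at hk
    obtain ⟨k, hk, rfl⟩ := hk
    show g * k * g⁻¹ * (g * x * g⁻¹) = g * x * g⁻¹ * (g * k * g⁻¹)
    calc g * k * g⁻¹ * (g * x * g⁻¹) = g * (k * x) * g⁻¹ := by group
      _ = g * (x * k) * g⁻¹ := by rw [hcm k (hK hk) x hx]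
      _ = g * x * g⁻¹ * (g * k * g⁻¹) := by group
  obtain ⟨c, hc⟩ := MulAction.exists_smul_eq C ((g • P).subtype hgC) (P.subtype hPC)
  rw [Sylow.smul_subtype] at hc
  have hc' : (c : G) • (g • P) = P := Sylow.subtype_injective hc
  refine ⟨(c : G) * g, Sylow.smul_eq_iff_mem_normalizer.1 (by rwa [mul_smul]), ?_⟩
  ext x
  constructor
  · intro hx
    have hxc : x * c = c * x := mem_centralizer_iff.1 c.2 x hx
    rw [hg] at hx
    obtain ⟨k, hk, hkx⟩ := hx
    refine ⟨k, hk, ?_⟩
    show (c : G) * g * k * ((c : G) * g)⁻¹ = x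
    have hkx' : g * k * g⁻¹ = x := hkx
    calc (c : G) * g * k * ((c : G) * g)⁻¹ = (c : G) * (g * k * g⁻¹) * (c : G)⁻¹ := by group
      _ = x := by rw [hkx', ← hxc, mul_inv_cancel_right]
  · rintro ⟨k, hk, rfl⟩
    have hm : g * k * g⁻¹ ∈ K' := hg ▸ ⟨k, hk, rfl⟩
    have hxc : g * k * g⁻¹ * c = c * (g * k * g⁻¹) := mem_centralizer_iff.1 c.2 _ hm
    show (c : G) * g * k * ((c : G) * g)⁻¹ ∈ K'
    rw [show (c : G) * g * k * ((c : G) * g)⁻¹ = (c : G) * (g * k * g⁻¹) * (c : G)⁻¹ by group, ← hxc,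
      mul_inv_cancel_right]
    exact hm

variable (hB : ConjAbelian G) (M : Subgroup G) [M.Normal] [IsSimpleGroup ↥M]
  (hna : ¬ IsMulCommutative ↥M)

include hna in
theorem two_dvd_card : 2 ∣ Nat.card M := by
  by_contra h
  haveI := Cfsg.Agent.S0205.result (G := ↥M) (Nat.odd_iff.2 (by omega))
  exact hna ⟨⟨IsSimpleGroup.comm_iff_isSolvable.2 inferInstance⟩⟩

include hB hna in
/-- All two-elements square to one. -/
theorem sq_one_of_two {y : G} (hy : ∃ k, orderOf y = 2 ^ k) : y * y = 1 := by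
  haveI : Fact (Nat.Prime 2) := ⟨Nat.prime_two⟩
  by_contra hne
  obtain ⟨k, hk⟩ := hy
  have hk2 : 2 ≤ k := by
    by_contra h
    refine hne ?_
    rw [← pow_two, ← orderOf_dvd_iff_pow_eq_one, hk]
    calc 2 ^ k ∣ 2 ^ 1 := pow_dvd_pow 2 (by omega)
      _ = 2 := pow_one 2
  obtain ⟨w, hw⟩ : ∃ w : G, orderOf w = 4 := by
    refine ⟨y ^ 2 ^ (k - 2), ?_⟩
    rw [orderOf_pow' y (by positivity), hk, Nat.gcd_eq_right (pow_dvd_pow 2 (by omega)),
      Nat.pow_div (by omega) two_pos, show k - (k - 2) = 2 by omega]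
    norm_num
  -- no four-group in `G`
  have hno : ∀ z x : G, z * z = 1 → x * x = 1 → z ≠ 1 → x ≠ 1 → z ≠ x → z * x = x * z → False := by
    intro z x hz hx hz1 hx1 hzx hc
    let V : Subgroup G :=
      { carrier := {a | a = 1 ∨ a = z ∨ a = x ∨ a = z * x}
        one_mem' := Or.inl rfl
        inv_mem' := by
          rintro a (rfl | rfl | rfl | rfl)
          · exact Or.inl inv_one
          · exact Or.inr (Or.inl (inv_eq_of_mul_eq_one_right hz))
          · exact Or.inr (Or.inr (Or.inl (inv_eq_of_mul_eq_one_right hx)))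
          · refine Or.inr (Or.inr (Or.inr ?_))
            rw [_root_.mul_inv_rev, inv_eq_of_mul_eq_one_right hz, inv_eq_of_mul_eq_one_right hx, hc]
        mul_mem' := by
          have e3 : z * (z * x) = x := by rw [← mul_assoc, hz, one_mul]
          have e4 : x * (z * x) = z := by rw [← mul_assoc, ← hc, mul_assoc, hx, mul_one]
          have e5 : z * x * z = x := by rw [mul_assoc, ← hc, e3]
          have e6 : z * x * x = z := by rw [mul_assoc, hx, mul_one]
          have e7 : z * x * (z * x) = 1 := by rw [← mul_assoc, e5, hx]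
          have e8 : x * z = z * x := hc.symm
          intro a b ha hb
          rcases ha with rfl | rfl | rfl | rfl <;> rcases hb with rfl | rfl | rfl | rfl <;>
            simp only [Set.mem_setOf_eq, one_mul, mul_one, hz, hx, e3, e4, e5, e6, e7, e8,
              true_or, or_true] }
    have hV4 : Nat.card V = 4 := by
      show Nat.card ({1, z, x, z * x} : Set G) = 4
      have h01 : z * x ≠ 1 := fun h => hzx (by
        calc z = z * x * x := by rw [mul_assoc, hx, mul_one]
          _ = x := by rw [h, one_mul])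
      rw [Nat.card_coe_set_eq, Set.ncard_insert_of_notMem (by simp [hz1.symm, hx1.symm, h01.symm]),
        Set.ncard_insert_of_notMem (by simp [hzx, hx1]),
        Set.ncard_insert_of_notMem (by simp [hz1]), Set.ncard_singleton]
    have hVc : IsMulCommutative V := ⟨⟨fun a b => Subtype.ext (by
      have key : ∀ c ∈ V, c * c = 1 := by
        rintro c (rfl | rfl | rfl | rfl)
        · exact one_mul 1
        · exact hz
        · exact hx
        · rw [mul_assoc, ← mul_assoc x, ← hc, mul_assoc z, hx, mul_one, hz]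
      show (a : G) * b = b * a
      calc (a : G) * b = (a : G) * (b : G) * ((a : G) * (b : G) * ((a : G) * (b : G)))⁻¹ := by
            rw [key _ (mul_mem a.2 b.2), inv_one, mul_one]
        _ = (b : G)⁻¹ * (a : G)⁻¹ := by group
        _ = b * a := by
            rw [inv_eq_of_mul_eq_one_right (key _ a.2), inv_eq_of_mul_eq_one_right (key _ b.2)])⟩⟩
    obtain ⟨g, hg⟩ := hB (zpowers w) V inferInstance hVc (by rw [Nat.card_zpowers, hw, hV4])
    have hm : g * w * g⁻¹ ∈ V := hg ▸ ⟨w, mem_zpowers w, rfl⟩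
    have hsq : g * w * g⁻¹ * (g * w * g⁻¹) = 1 := by
      rcases hm with h | h | h | h <;> rw [h]
      · exact one_mul 1
      · exact hz
      · exact hx
      · rw [mul_assoc, ← mul_assoc x, ← hc, mul_assoc z, hx, mul_one, hz]
    rw [show g * w * g⁻¹ * (g * w * g⁻¹) = g * (w * w) * g⁻¹ by group, conj_eq_one_iff, ← pow_two,
      ← orderOf_dvd_iff_pow_eq_one, hw] at hsq
    norm_num at hsq
  -- so a Sylow two-subgroup of `M` has one involution
  obtain ⟨T⟩ : Nonempty (Sylow 2 ↥M) := inferInstance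
  have hTne : (T : Subgroup M) ≠ ⊥ := T.ne_bot_of_dvd_card (two_dvd_card M hna)
  haveI : Nontrivial (T : Subgroup M) := (Subgroup.nontrivial_iff_ne_bot _).2 hTne
  haveI := T.isPGroup'.center_nontrivial
  obtain ⟨c, hc⟩ := exists_prime_orderOf_dvd_card' (G := center ↥(T : Subgroup M)) 2 (by
    obtain ⟨j, hj, hcard⟩ := (T.isPGroup'.to_subgroup (center _)).nontrivial_iff_card.1 inferInstance
    exact hcard ▸ dvd_pow_self 2 (by omega))
  rw [← Subgroup.orderOf_coe] at hc
  set z : ↥M := ((c : (T : Subgroup M)) : ↥M) with hzdef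
  have hz2 : orderOf z = 2 := by rw [hzdef, Subgroup.orderOf_coe]; exact hc
  refine Walter3.false_of_unique hna T hz2 (c : (T : Subgroup M)).2 fun x hxT hx2 => ?_
  by_contra hne'
  have hzx : z * x = x * z :=
    congrArg Subtype.val ((mem_center_iff.1 c.2 ⟨x, hxT⟩).symm)
  have hsq : ∀ a : ↥M, orderOf a = 2 → (a : G) * a = 1 ∧ (a : G) ≠ 1 := fun a ha => by
    refine ⟨?_, fun h => ?_⟩
    · rw [← Subgroup.coe_mul, ← pow_two, ← ha, pow_orderOf_eq_one, Subgroup.coe_one]
    · rw [show a = 1 from Subtype.ext h, orderOf_one] at ha; omega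
  exact hno z x (hsq z hz2).1 (hsq x hx2).1 (hsq z hz2).2 (hsq x hx2).2
    (fun h => hne' (Subtype.ext h).symm) (congrArg Subtype.val hzx)

include hB hna in
/-- Every two-subgroup is elementary abelian. -/
theorem two_group_comm {H : Subgroup G} (hH : IsPGroup 2 H) :
    (∀ x ∈ H, x * x = 1) ∧ IsMulCommutative H := by
  haveI : Fact (Nat.Prime 2) := ⟨Nat.prime_two⟩
  have hsq : ∀ x ∈ H, x * x = 1 := fun x hx => by
    obtain ⟨k, hk⟩ := IsPGroup.iff_orderOf.1 hH ⟨x, hx⟩
    exact sq_one_of_two hB M hna ⟨k, by rw [← hk, ← Subgroup.orderOf_coe]⟩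
  refine ⟨hsq, ⟨⟨fun a b => Subtype.ext ?_⟩⟩⟩
  show (a : G) * b = b * a
  calc (a : G) * b = (a : G) * (b : G) * ((a : G) * (b : G) * ((a : G) * (b : G)))⁻¹ := by
        rw [hsq _ (mul_mem a.2 b.2), inv_one, mul_one]
    _ = (b : G)⁻¹ * (a : G)⁻¹ := by group
    _ = b * a := by
        rw [inv_eq_of_mul_eq_one_right (hsq _ a.2), inv_eq_of_mul_eq_one_right (hsq _ b.2)]

include hB hna in
theorem sylow_two_comm (T : Sylow 2 ↥M) : IsMulCommutative (T : Subgroup M) := by
  have h := (two_group_comm hB M hna (H := (T : Subgroup M).map M.subtype) (T.isPGroup'.map _)).2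
  refine ⟨⟨fun a b => Subtype.ext (Subtype.ext ?_)⟩⟩
  have h' := congrArg Subtype.val
    (h.is_comm.comm ⟨_, mem_map_of_mem M.subtype a.2⟩ ⟨_, mem_map_of_mem M.subtype b.2⟩)
  exact h'

include hB hna in
/-- Only three even fields occur. -/
theorem exponent_cases_of_conj {F : Type} [Field F] [Fintype F] {a : ℕ} (ha : 2 ≤ a)
    (hF : Fintype.card F = 2 ^ a) (f : ↥M ≃* ProjectiveSpecialLinearGroup (Fin 2) F) :
    a = 2 ∨ a = 3 ∨ a = 5 := by
  haveI : Fact (Nat.Prime 2) := ⟨Nat.prime_two⟩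
  haveI : CharP F 2 := charP_of_card_eq_prime_pow (f := a) hF
  obtain ⟨S⟩ : Nonempty (Sylow 2 (ProjectiveSpecialLinearGroup (Fin 2) F)) := inferInstance
  set j : ProjectiveSpecialLinearGroup (Fin 2) F →* G := M.subtype.comp f.symm.toMonoidHom with hj
  have hjinj : Function.Injective j := Subtype.val_injective.comp f.symm.injective
  have hjrange : j.range = M := by
    rw [hj, MonoidHom.range_comp, MonoidHom.range_eq_top.2 f.symm.surjective, ← MonoidHom.range_eq_map,
      Subgroup.range_subtype]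
  obtain ⟨P, hP⟩ := (S.isPGroup'.map j).exists_le_sylow
  have hPc := (two_group_comm hB M hna P.isPGroup').2
  have hPM : (P : Subgroup G) ⊓ M = (S : Subgroup _).map j := by
    refine le_antisymm ?_ (le_inf hP ((map_le_range j _).trans hjrange.le))
    have h : IsPGroup 2 ↥(((P : Subgroup G) ⊓ M).comap j) :=
      (P.isPGroup'.to_le inf_le_left).comap_of_injective j hjinj
    have hle : (S : Subgroup _) ≤ ((P : Subgroup G) ⊓ M).comap j := by
      rw [← map_le_iff_le_comap]
      exact le_inf hP ((map_le_range j _).trans hjrange.le)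
    rw [← S.is_maximal' h hle, map_comap_eq, hjrange]
    exact le_inf inf_le_right le_rfl
  refine exponent_cases ha hF S fun K K' hK hK' hK4 hK'4 => ?_
  have hKc : ∀ {K : Subgroup (ProjectiveSpecialLinearGroup (Fin 2) F)}, K ≤ S →
      IsMulCommutative ↥(K.map j) := by
    intro K hK
    refine ⟨⟨fun a b => Subtype.ext ?_⟩⟩
    have h := hPc.is_comm.comm (⟨a.1, hP (map_mono hK a.2)⟩ : (P : Subgroup G)) ⟨b.1, hP (map_mono hK b.2)⟩
    have h' := congrArg Subtype.val h
    exact h'
  obtain ⟨g, hg⟩ := hB (K.map j) (K'.map j) (hKc hK) (hKc hK')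
    (by rw [card_map_of_injective hjinj, card_map_of_injective hjinj, hK4, hK'4])
  obtain ⟨n, hn, hnK⟩ := exists_normalizer_map P hPc ((map_mono hK).trans hP) ((map_mono hK').trans hP) hg
  set β : MulAut (ProjectiveSpecialLinearGroup (Fin 2) F) :=
    f.symm.trans ((MulAut.conjNormal n : MulAut ↥M).trans f) with hβ
  have hjβ : ∀ x, j (β x) = n * j x * n⁻¹ := fun x => by
    show ((f.symm (f (MulAut.conjNormal n (f.symm x))) : ↥M) : G) = _
    rw [f.symm_apply_apply, MulAut.conjNormal_apply]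
    rfl
  have key : ∀ A : Subgroup (ProjectiveSpecialLinearGroup (Fin 2) F),
      (β • A).map j = (A.map j).map (MulAut.conj n).toMonoidHom := fun A => by
    show (A.map β.toMonoidHom).map j = _
    rw [Subgroup.map_map, Subgroup.map_map]
    congr 1
    exact MonoidHom.ext hjβ
  refine ⟨β, map_injective hjinj ?_, map_injective hjinj ?_⟩
  · rw [key, ← hPM, Subgroup.map_inf _ _ _ (MulAut.conj n).injective]
    congr 1
    · ext x
      rw [Subgroup.mem_map_equiv, MulAut.conj_symm_apply]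
      exact ((mem_normalizer_iff.1 (inv_mem hn) x).trans (by rw [inv_inv])).symm
    · ext x
      rw [Subgroup.mem_map_equiv, MulAut.conj_symm_apply]
      exact ⟨fun h => by simpa [mul_assoc] using (inferInstance : M.Normal).conj_mem _ h n,
        fun h => by simpa [mul_assoc] using (inferInstance : M.Normal).conj_mem _ h n⁻¹⟩
  · rw [key, ← hnK]

theorem psl_equiv_sl_two {F : Type} [Field F] [Fintype F] {n : ℕ} (hn : n ≠ 0)
    (hF : Fintype.card F = 2 ^ n) :
    Nonempty (ProjectiveSpecialLinearGroup (Fin 2) F ≃* SpecialLinearGroup (Fin 2) F) := by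
  have hc : Subgroup.center (SpecialLinearGroup (Fin 2) F) = ⊥ := by
    rw [← Subgroup.card_eq_one, Cfsg.Lib.Linear.card_center_SL, Fintype.card_fin, hF]
    exact Nat.coprime_two_left.2 (Nat.Even.sub_odd Nat.one_le_two_pow ((Nat.even_pow).2 ⟨even_two, hn⟩) odd_one)
  exact ⟨(QuotientGroup.quotientMulEquivOfEq hc).trans QuotientGroup.quotientBot⟩

include hB hna in
/-- The list, given the structure of the nonsolvable involution centralizers. -/
theorem list_of_cent (hW : Walter3.CentClause ↥M) :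
    (∃ (F : Type) (_ : Field F) (_ : Fintype F), (Fintype.card F = 2 ^ 2 ∨ Fintype.card F = 2 ^ 3 ∨ Fintype.card F = 2 ^ 5) ∧
        Nonempty (↥M ≃* Matrix.SpecialLinearGroup (Fin 2) F)) ∨
    (∃ (F : Type) (_ : Field F) (_ : Fintype F), 5 ≤ Fintype.card F ∧ (Fintype.card F % 8 = 3 ∨ Fintype.card F % 8 = 5) ∧
        Nonempty (↥M ≃* Matrix.ProjectiveSpecialLinearGroup (Fin 2) F)) ∨
    Cfsg.Spor.IsoJ1 ↥M := by
  haveI : Fact (Nat.Prime 2) := ⟨Nat.prime_two⟩
  obtain ⟨T⟩ : Nonempty (Sylow 2 ↥M) := inferInstance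
  have hT := sylow_two_comm hB M hna T
  rcases cases hna T hT hW with ⟨F, i, j, hq, ⟨f⟩⟩ | ⟨t, F, i, j, ht, h3, hone, ⟨e⟩, hord⟩
  · rcases hq with ⟨a, ha, hF⟩ | ⟨h8, h5⟩
    · obtain ⟨e⟩ := psl_equiv_sl_two (F := F) (n := a) (by omega) hF
      refine Or.inl ⟨F, i, j, ?_, ⟨f.trans e⟩⟩
      rcases exponent_cases_of_conj hB M hna ha hF f with rfl | rfl | rfl
      exacts [Or.inl hF, Or.inr (Or.inl hF), Or.inr (Or.inr hF)]
    · exact Or.inr (Or.inl ⟨F, i, j, h5, h8, ⟨f⟩⟩)
  -- the third kind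
  obtain ⟨P, hP⟩ := (IsPGroup.of_card (n := 1) (by rw [Nat.card_zpowers, ht, pow_one]) :
    IsPGroup 2 (zpowers t)).exists_le_sylow
  haveI hPc := sylow_two_comm hB M hna P
  rcases hord with ⟨m, hm, hF, -⟩ | ⟨h45, hJ⟩
  · exfalso
    have hidx : Odd (centralizer ({t} : Set ↥M)).index := by
      have hle : (P : Subgroup M) ≤ centralizer ({t} : Set ↥M) := fun x hx =>
        mem_centralizer_singleton_iff.2 (congrArg Subtype.val
          (hPc.is_comm.comm (⟨x, hx⟩ : (P : Subgroup M)) ⟨t, hP (mem_zpowers t)⟩))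
      rw [Nat.odd_iff]
      by_contra h
      exact P.not_dvd_index ((Nat.dvd_of_mod_eq_zero (by omega)).trans (index_dvd_of_le hle))
    obtain ⟨⟨x, c, hx, hc⟩, y, hy, hny⟩ := hasThreeReality hna hm hF ht hidx e
    obtain ⟨g, hg⟩ := hB (zpowers (x : G)) (zpowers (y : G)) inferInstance inferInstance
      (by rw [Nat.card_zpowers, Nat.card_zpowers, Subgroup.orderOf_coe, Subgroup.orderOf_coe, hx, hy])
    set φ : MulAut ↥M := MulAut.conjNormal g with hφ
    have hmem : ((φ x : ↥M) : G) ∈ zpowers (y : G) := by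
      rw [hg, hφ, MulAut.conjNormal_apply]
      exact ⟨_, mem_zpowers _, rfl⟩
    obtain ⟨r, hr⟩ := mem_zpowers_iff.1 hmem
    have hr' : y ^ r = φ x := Subtype.ext (by rw [SubgroupClass.coe_zpow]; exact hr)
    have hreal : φ c * φ x * (φ c)⁻¹ = (φ x)⁻¹ := by rw [← map_inv φ c, ← map_mul, ← map_mul, hc, map_inv]
    have hy3 : y ^ (3 : ℤ) = 1 := by rw [zpow_ofNat, ← hy, pow_orderOf_eq_one]
    have hφ1 : φ x ≠ 1 := fun h => by
      rw [MulEquiv.map_eq_one_iff] at h
      rw [h, orderOf_one] at hx; omega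
    have hyr : ∀ r : ℤ, y ^ r = y ^ (r % 3) := fun r => by
      conv_lhs => rw [← Int.emod_add_mul_ediv r 3, _root_.zpow_add, _root_.zpow_mul, hy3, _root_.one_zpow, mul_one]
    rw [hyr] at hr'
    have h0 := Int.emod_nonneg r (show (3 : ℤ) ≠ 0 by norm_num)
    have h3' := Int.emod_lt_of_pos r (show (0 : ℤ) < 3 by norm_num)
    interval_cases h : r % 3
    · exact hφ1 (hr'.symm.trans (zpow_zero y))
    · rw [zpow_one] at hr'
      exact hny _ (hr' ▸ hreal)
    · have h2 : y⁻¹ = φ x := by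
        rw [← hr', show (2 : ℤ) = 3 + -1 by norm_num, _root_.zpow_add, hy3, one_mul, _root_.zpow_neg_one]
      refine hny (φ c) ?_
      rw [← h2, inv_inv] at hreal
      calc φ c * y * (φ c)⁻¹ = (φ c * y⁻¹ * (φ c)⁻¹)⁻¹ := by group
        _ = y⁻¹ := by rw [hreal]
  · obtain ⟨ψ⟩ : Nonempty (ProjectiveSpecialLinearGroup (Fin 2) F ≃* alternatingGroup (Fin 5)) :=
      h45.elim Cfsg.Agent.S0252.result Cfsg.Agent.S0253.result
    have h8 : Nat.card P = 8 := by
      rw [P.card_eq_multiplicity, hJ.2]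
      rw [show (175560 : ℕ) = 2 ^ 3 * 21945 by norm_num, Nat.factorization_mul (by norm_num) (by norm_num),
        Finsupp.add_apply, Nat.prime_two.factorization_pow, Finsupp.single_eq_same,
        Nat.factorization_eq_zero_of_not_dvd (by norm_num : ¬ 2 ∣ 21945)]
      rfl
    exact Or.inr (Or.inr (Cfsg.Agent.S1644.result P hPc h8 t ht
      (e.trans ((MulEquiv.refl _).prodCongr ψ))))

end Cfsg.Lib.SimpleAbTwo
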