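import Cfsg.Agent.Lib.CentMax.Setting
import Cfsg.Agent.Lib.AllAb.Main
import Cfsg.Agent.Lib.Walter3.CaseSplit

/-!
# Simple groups with abelian Sylow two-subgroups: the three kinds

`PSL₂(2^a)`, `PSL₂(q)` with `q ≡ 3, 5 mod 8`, or an involution centralizer `2 × PSL₂(q)`,
the last given the structure of nonsolvable centralizers (`Walter3.CentClause`).
-/

set_option autoImplicit false
set_option linter.style.haveILetI false
set_option linter.unusedSectionVars false

namespace Cfsg.Lib.SimpleAbTwo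

open Subgroup Cfsg Matrix
open Cfsg.Lib

universe u

variable {G : Type u} [Group G] [Finite G]

/-- `PSL₂` in the two kinds with abelian Sylow two-subgroups. -/
def IsGoodPSLTwo (G : Type u) [Group G] : Prop :=
  ∃ (F : Type) (_ : Field F) (_ : Fintype F),
    ((∃ a : ℕ, 2 ≤ a ∧ Fintype.card F = 2 ^ a) ∨
      ((Fintype.card F % 8 = 3 ∨ Fintype.card F % 8 = 5) ∧ 5 ≤ Fintype.card F)) ∧
    Nonempty (G ≃* ProjectiveSpecialLinearGroup (Fin 2) F)

/-- An involution with centralizer `2 × PSL₂(q)`, one class of involutions, and the order of the group. -/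
def IsTwoTimesPSL (G : Type u) [Group G] : Prop :=
  ∃ (t : G) (F : Type) (_ : Field F) (_ : Fintype F), orderOf t = 2 ∧ 3 ≤ Fintype.card F ∧
    (∀ s : G, s * s = 1 → s ≠ 1 → ∃ g : G, g * t * g⁻¹ = s) ∧
    Nonempty (centralizer ({t} : Set G) ≃*
      Multiplicative (ZMod 2) × ProjectiveSpecialLinearGroup (Fin 2) F) ∧
    ((∃ m : ℕ, 1 ≤ m ∧ Fintype.card F = 3 ^ (2 * m + 1) ∧
        Nat.card G = (3 ^ (2 * m + 1)) ^ 3 * ((3 ^ (2 * m + 1)) ^ 3 + 1) * (3 ^ (2 * m + 1) - 1)) ∨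
      ((Fintype.card F = 4 ∨ Fintype.card F = 5) ∧ Cfsg.IsJ1 G))

theorem goodPSL_of_solvable [IsSimpleGroup G] (hna : ¬ IsMulCommutative G) (S : Sylow 2 G)
    (hS : IsMulCommutative ↥(S : Subgroup G))
    (hC : ∀ t : G, orderOf t = 2 → Group.IsSolvable ↥(centralizer ({t} : Set G))) :
    IsGoodPSLTwo G := by
  have hns : ¬ Group.IsSolvable G := fun h => hna ⟨⟨IsSimpleGroup.comm_iff_isSolvable.2 h⟩⟩
  rcases Cfsg.Agent.S3188.result S hS hC with h | ⟨F, i, j, hq, N, hN, ⟨e⟩, -⟩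
  · exact absurd h hns
  have hO : oddCore G = ⊥ := by
    refine (IsSimpleGroup.eq_bot_or_eq_top_of_normal (oddCore G) inferInstance).resolve_right fun h => ?_
    have h1 := Cfsg.Lib.AbTwo.odd_oddCore (G := G)
    rw [h, card_top] at h1
    exact hns (Cfsg.Agent.S0205.result h1)
  let f : G ≃* G ⧸ oddCore G := ((QuotientGroup.quotientMulEquivOfEq hO).trans
    QuotientGroup.quotientBot).symm
  haveI : Nontrivial (G ⧸ oddCore G) := f.toEquiv.symm.nontrivial
  haveI : IsSimpleGroup (G ⧸ oddCore G) :=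
    IsSimpleGroup.isSimpleGroup_of_surjective f.toMonoidHom f.surjective
  have hN' : N = ⊤ := by
    refine (IsSimpleGroup.eq_bot_or_eq_top_of_normal N hN).resolve_left fun h => ?_
    subst h
    have h1 := Nat.card_congr e.toEquiv
    rw [card_bot] at h1
    have h2 := Cfsg.Lib.Linear.Two.card_PSL_two (F := F)
    rw [← h1, mul_one] at h2
    have h4 : 4 ≤ Fintype.card F := by
      rcases hq with ⟨-, h⟩ | ⟨n, hn, h⟩
      · omega
      · rw [h]; exact (Nat.pow_le_pow_right two_pos hn)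
    have h3 : Nat.gcd 2 (Fintype.card F - 1) ≤ 2 := Nat.le_of_dvd two_pos (Nat.gcd_dvd_left _ _)
    have h5 : 15 ≤ Fintype.card F ^ 2 - 1 := by
      have : 16 ≤ Fintype.card F ^ 2 := by nlinarith
      omega
    nlinarith
  exact ⟨F, i, j, hq.elim Or.inr fun ⟨n, hn, hF⟩ => Or.inl ⟨n, hn, hF⟩,
    ⟨(f.trans ((MulEquiv.subgroupCongr hN').trans Subgroup.topEquiv).symm).trans e⟩⟩

/-- The three kinds. -/
theorem cases [IsSimpleGroup G] (hna : ¬ IsMulCommutative G) (S : Sylow 2 G)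
    (hS : IsMulCommutative ↥(S : Subgroup G)) (hW : Walter3.CentClause G) :
    IsGoodPSLTwo G ∨ IsTwoTimesPSL G := by
  haveI : Fact (Nat.Prime 2) := ⟨Nat.prime_two⟩
  by_cases hC : ∀ t : G, orderOf t = 2 → Group.IsSolvable ↥(centralizer ({t} : Set G))
  · exact Or.inl (goodPSL_of_solvable hna S hS hC)
  push Not at hC
  obtain ⟨t, ht, hns⟩ := hC
  obtain ⟨P, hP, h8, hel, h21, htP⟩ := CentMax.exists_setting hna S hS ht hns
  haveI := hP
  obtain ⟨F, i, j, h3, ⟨e⟩⟩ := hW P h8 hel h21 t ht htP hns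
  refine Or.inr ⟨t, F, i, j, ht, h3, fun s hs hs1 => CentMax.isConj_of_invol h8 hel h21 htP
    (fun h => by rw [h, orderOf_one] at ht; omega) hs hs1, ⟨e⟩, ?_⟩
  exact Walter8.main (fun T a b => (CentMax.sylow_comm S hS T).is_comm.comm a b) h3 t ht e

end Cfsg.Lib.SimpleAbTwo
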