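import Mathlib.GroupTheory.OrderOfElement
import Mathlib.GroupTheory.Index
import Mathlib.GroupTheory.Sylow
import Mathlib.Algebra.CharP.Two
import Mathlib.Data.ZMod.Basic

/-!
# A real element of odd order with a centralizer of odd order

With one class of `I` involutions, each commuting with `j` others, such an element exists
if `1 + j² < I`: otherwise the commuting graph of the involutions has diameter two.
-/

set_option autoImplicit false
set_option linter.unusedSectionVars false

namespace Cfsg.Lib.SimpleAbTwo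

open Subgroup

universe u

/-- A real element of odd order with a centralizer of odd order. -/
def HasRealOddCent (G : Type u) [Group G] : Prop :=
  ∃ x : G, x ≠ 1 ∧ Odd (orderOf x) ∧ (∃ g : G, g * x * g⁻¹ = x⁻¹) ∧
    Odd (Nat.card (centralizer ({x} : Set G)))

/-- Over characteristic two a sum is the sum over the fixed points of an involutive symmetry. -/
theorem sum_eq_sum_fixed {R ι : Type*} [CommRing R] [CharP R 2] [DecidableEq ι] (s : Finset ι)
    (f : ι → ι) (hs : ∀ a ∈ s, f a ∈ s) (hf : ∀ a ∈ s, f (f a) = a) (F : ι → R)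
    (hF : ∀ a ∈ s, F (f a) = F a) :
    ∑ a ∈ s, F a = ∑ a ∈ s.filter (fun a => f a = a), F a := by
  rw [← Finset.sum_filter_add_sum_filter_not s (fun a => f a = a) F, add_eq_left]
  refine Finset.sum_involution (fun a _ => f a)
    (fun a ha => by rw [hF a (Finset.mem_filter.1 ha).1, CharTwo.add_self_eq_zero])
    (fun a ha _ => (Finset.mem_filter.1 ha).2) (fun a ha => ?_)
    (fun a ha => hf a (Finset.mem_filter.1 ha).1)
  rw [Finset.mem_filter] at ha ⊢
  exact ⟨hs a ha.1, fun e => ha.2 (by rwa [hf a ha.1, eq_comm] at e)⟩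

/-- The number of fixed points has the parity of the number of points. -/
theorem card_fixed_cast {ι : Type*} [DecidableEq ι] (s : Finset ι)
    (f : ι → ι) (hs : ∀ a ∈ s, f a ∈ s) (hf : ∀ a ∈ s, f (f a) = a) :
    (s.card : ZMod 2) = ((s.filter fun a => f a = a).card : ZMod 2) := by
  have h := sum_eq_sum_fixed s f hs hf (fun _ => (1 : ZMod 2)) (fun _ _ => rfl)
  simpa using h

variable {G : Type u} [Group G] [Finite G]

/-- An element of order two inverting `x` commutes with an involution of an even centralizer. -/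
theorem exists_common {x t : G} (ht : t * t = 1) (htx : t * x * t = x⁻¹)
    (hev : 2 ∣ Nat.card (centralizer ({x} : Set G))) :
    ∃ u : G, u * u = 1 ∧ u ≠ 1 ∧ u * x = x * u ∧ u * t = t * u := by
  classical
  haveI := Fintype.ofFinite G
  set C := centralizer ({x} : Set G) with hC
  haveI := Fintype.ofFinite C
  have hC2 : (((Finset.univ : Finset C).filter fun c => c⁻¹ = c).card : ZMod 2) = 0 := by
    rw [← card_fixed_cast Finset.univ (fun c : C => c⁻¹) (fun _ _ => Finset.mem_univ _)
      (fun c _ => inv_inv c), Finset.card_univ, ← Nat.card_eq_fintype_card]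
    exact (ZMod.natCast_eq_zero_iff _ 2).2 hev
  set s := (Finset.univ : Finset C).filter fun c => c⁻¹ = c with hs
  have hconj : ∀ c ∈ C, t * c * t ∈ C := fun c hc => by
    have h : c * x = x * c := mem_centralizer_singleton_iff.1 hc
    have hi : c * x⁻¹ = x⁻¹ * c := (Commute.inv_right h).eq
    rw [mem_centralizer_singleton_iff]
    have hx : t * x⁻¹ * t = x := by
      rw [← htx, ← mul_assoc, ← mul_assoc, ht, one_mul, mul_assoc, ht, mul_one]
    calc t * c * t * x = t * c * t * (t * x⁻¹ * t) := by rw [hx]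
      _ = t * c * (t * t) * x⁻¹ * t := by group
      _ = t * (c * x⁻¹) * t := by rw [ht]; group
      _ = t * x⁻¹ * (t * t) * c * t := by rw [hi, ht]; group
      _ = t * x⁻¹ * t * (t * c * t) := by group
      _ = x * (t * c * t) := by rw [hx]
  let f : C → C := fun c => ⟨t * c * t, hconj c c.2⟩
  have hff : ∀ c : C, f (f c) = c := fun c => Subtype.ext (by
    show t * (t * c * t) * t = c
    rw [← mul_assoc, ← mul_assoc, ht, one_mul, mul_assoc, ht, mul_one])
  have hfs : ∀ c ∈ s, f c ∈ s := fun c hc => by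
    rw [hs, Finset.mem_filter] at hc ⊢
    refine ⟨Finset.mem_univ _, Subtype.ext ?_⟩
    have htinv : t⁻¹ = t := inv_eq_of_mul_eq_one_right ht
    show (t * c * t)⁻¹ = t * c * t
    rw [_root_.mul_inv_rev, _root_.mul_inv_rev, htinv, ← mul_assoc,
      show ((c : G))⁻¹ = c from congrArg Subtype.val hc.2]
  rw [card_fixed_cast s f hfs (fun c _ => hff c)] at hC2
  set P := s.filter fun c => f c = c with hP
  have h1 : (1 : C) ∈ P := by
    rw [hP, hs, Finset.mem_filter, Finset.mem_filter]
    exact ⟨⟨Finset.mem_univ _, inv_one⟩, Subtype.ext (by show t * 1 * t = 1; rw [mul_one, ht])⟩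
  obtain ⟨c, hc, hc1⟩ : ∃ c ∈ P, c ≠ 1 := by
    by_contra hne
    push Not at hne
    rw [show P = {1} from Finset.eq_singleton_iff_unique_mem.2 ⟨h1, hne⟩, Finset.card_singleton,
      Nat.cast_one] at hC2
    exact one_ne_zero hC2
  rw [hP, hs, Finset.mem_filter, Finset.mem_filter] at hc
  refine ⟨c, ?_, fun e => hc1 (Subtype.ext e), mem_centralizer_singleton_iff.1 c.2, ?_⟩
  · have h2 : (c : G)⁻¹ = c := congrArg Subtype.val hc.1.2
    nth_rewrite 1 [← h2]; rw [inv_mul_cancel]
  · have h2 : t * c * t = (c : G) := congrArg Subtype.val hc.2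
    nth_rewrite 1 [← h2]; rw [mul_assoc, ht, mul_one]

/-- The involutions commuting with `v`, other than `v`. -/
noncomputable def commInv [Fintype G] (v : G) : Finset G := by
  classical
  exact Finset.univ.filter fun s => s * s = 1 ∧ s ≠ 1 ∧ s * v = v * s ∧ s ≠ v

theorem mem_commInv [Fintype G] {v s : G} :
    s ∈ commInv v ↔ s * s = 1 ∧ s ≠ 1 ∧ s * v = v * s ∧ s ≠ v := by
  classical
  simp [commInv]

theorem card_commInv_conj [Fintype G] (g v : G) :
    (commInv (g * v * g⁻¹)).card = (commInv v).card := by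
  symm
  refine Finset.card_equiv (MulAut.conj g).toEquiv fun s => ?_
  rw [mem_commInv, mem_commInv]
  simp only [MulEquiv.toEquiv_eq_coe, EquivLike.coe_coe, MulAut.conj_apply]
  refine and_congr ?_ (and_congr ?_ (and_congr ?_ ?_))
  · rw [show g * s * g⁻¹ * (g * s * g⁻¹) = g * (s * s) * g⁻¹ by group, conj_eq_one_iff]
  · exact not_congr conj_eq_one_iff.symm
  · rw [show g * s * g⁻¹ * (g * v * g⁻¹) = g * (s * v) * g⁻¹ by group,
      show g * v * g⁻¹ * (g * s * g⁻¹) = g * (v * s) * g⁻¹ by group, mul_left_inj, mul_right_inj]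
  · exact not_congr (by rw [mul_left_inj, mul_right_inj])

/-- Two steps in the commuting graph do not reach all involutions. -/
theorem hasRealOddCent_of_count [Fintype G] {t : G} (ht : orderOf t = 2)
    (hone : ∀ s : G, s * s = 1 → s ≠ 1 → ∃ g : G, g * t * g⁻¹ = s)
    (hlt : 1 + (commInv t).card * (commInv t).card < (centralizer ({t} : Set G)).index) :
    HasRealOddCent G := by
  classical
  by_contra hno
  set j := (commInv t).card with hj
  have ht2 : t * t = 1 := by rw [← pow_two, ← ht]; exact pow_orderOf_eq_one t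
  have ht1 : t ≠ 1 := fun h => by rw [h, orderOf_one] at ht; omega
  set Inv := (Finset.univ : Finset G).filter fun s => s * s = 1 ∧ s ≠ 1 with hInv
  have hsub : Inv ⊆ insert t (commInv t ∪ (commInv t).biUnion fun u => (commInv u).erase t) := by
    intro s hs
    rw [hInv, Finset.mem_filter] at hs
    obtain ⟨-, hs2, hs1⟩ := hs
    rw [Finset.mem_insert]
    by_cases hst : s = t
    · exact Or.inl hst
    refine Or.inr (Finset.mem_union.2 ?_)
    by_cases hc : s * t = t * s
    · exact Or.inl (mem_commInv.2 ⟨hs2, hs1, hc, hst⟩)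
    refine Or.inr ?_
    obtain ⟨x, hx⟩ : ∃ x : G, x = s * t := ⟨_, rfl⟩
    have htx : t * x * t = x⁻¹ := by
      rw [hx, mul_assoc, mul_assoc, ht2, mul_one, _root_.mul_inv_rev,
        inv_eq_of_mul_eq_one_right ht2, inv_eq_of_mul_eq_one_right hs2]
    obtain ⟨u, hu2, hu1, hux, hut⟩ : ∃ u : G, u * u = 1 ∧ u ≠ 1 ∧ u * x = x * u ∧ u * t = t * u := by
      refine exists_common ht2 htx ?_
      rcases Nat.even_or_odd (orderOf x) with hev | hodd
      · exact (even_iff_two_dvd.1 hev).trans
          (Subgroup.orderOf_dvd_natCard _ (mem_centralizer_singleton_iff.2 rfl))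
      · have hx1 : x ≠ 1 := fun e => hc <| by
          have hs' : s = t := by
            calc s = s * t * t := by rw [mul_assoc, ht2, mul_one]
              _ = t := by rw [← hx, e, one_mul]
          rw [hs']
        by_contra hodd'
        refine hno ⟨x, hx1, hodd, ⟨t, ?_⟩, Nat.odd_iff.2 (by omega)⟩
        rw [inv_eq_of_mul_eq_one_right ht2, htx]
    have hust : u * s = s * u := by
      have hs' : s = x * t := by rw [hx, mul_assoc, ht2, mul_one]
      rw [hs', ← mul_assoc, hux, mul_assoc, hut, mul_assoc]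
    have hne : u ≠ t := fun e => hc (by rw [← e]; exact hust.symm)
    refine Finset.mem_biUnion.2 ⟨u, mem_commInv.2 ⟨hu2, hu1, hut, hne⟩,
      Finset.mem_erase.2 ⟨hst, mem_commInv.2 ⟨hs2, hs1, hust.symm, fun e => hc ?_⟩⟩⟩
    rw [e]; exact hut
  have hbound : Inv.card ≤ 1 + j * j := by
    refine (Finset.card_le_card hsub).trans ((Finset.card_insert_le _ _).trans ?_)
    have h1 := Finset.card_union_le (commInv t) ((commInv t).biUnion fun u => (commInv u).erase t)
    have h2 : ((commInv t).biUnion fun u => (commInv u).erase t).card ≤ j * (j - 1) := by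
      refine Finset.card_biUnion_le_card_mul _ _ _ fun u hu => ?_
      obtain ⟨hu2, hu1, hut, hne⟩ := mem_commInv.1 hu
      obtain ⟨g, rfl⟩ := hone u hu2 hu1
      rw [Finset.card_erase_of_mem (mem_commInv.2 ⟨ht2, ht1, hut.symm, hne.symm⟩), card_commInv_conj]
    rcases Nat.eq_zero_or_pos j with hj0 | hj0
    · rw [hj0] at h2 ⊢; omega
    · have : j * j = j * (j - 1) + j := by
        nth_rewrite 2 [show j = j - 1 + 1 by omega]; rw [Nat.mul_add, mul_one]
      omega
  have hidx : (centralizer ({t} : Set G)).index ≤ Inv.card := by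
    rw [Subgroup.index, Nat.card_eq_fintype_card, ← Finset.card_univ]
    refine Finset.card_le_card_of_injOn (fun c => c.out * t * c.out⁻¹) (fun c _ => ?_) ?_
    · rw [Finset.mem_coe, hInv, Finset.mem_filter]
      refine ⟨Finset.mem_univ _, ?_, fun e => ht1 (conj_eq_one_iff.1 e)⟩
      rw [show ∀ a : G, a * t * a⁻¹ * (a * t * a⁻¹) = a * (t * t) * a⁻¹ from fun a => by group, ht2]
      group
    · intro a _ b _ hab
      have hab' : a.out * t * a.out⁻¹ = b.out * t * b.out⁻¹ := hab
      rw [← Quotient.out_eq a, ← Quotient.out_eq b]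
      refine QuotientGroup.eq.2 (mem_centralizer_singleton_iff.2 ?_)
      calc a.out⁻¹ * b.out * t = a.out⁻¹ * (b.out * t * b.out⁻¹) * b.out := by group
        _ = t * (a.out⁻¹ * b.out) := by rw [← hab']; group
  omega

end Cfsg.Lib.SimpleAbTwo
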