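import Cfsg.Agent.S4550
import Cfsg.Agent.Lib.Block.PrincipalSums
import Cfsg.Agent.Lib.Block.GaloisTwist
import Cfsg.Agent.Lib.SimpleAbTwo.Count
import Cfsg.Agent.Lib.Char.Orthogonality

/-!
# Characters fixed by the Galois automorphism inverting the odd roots of unity

With `g ^ k = g` for two-elements and `g ^ k = g⁻¹` for odd order: some nontrivial member of the
principal two-block is fixed, and, given a real element of odd order with a centralizer of odd
order, some character of even degree is fixed.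
-/

set_option autoImplicit false
set_option linter.unusedSectionVars false
set_option linter.style.haveILetI false

namespace Cfsg.Lib.SimpleAbTwo

open Cfsg Cfsg.Lib.Block Subgroup
open scoped ComplexConjugate

universe u

variable {G : Type u} [Group G] [Finite G] {k : ℕ}
  (hk₁ : ∀ g : G, (∃ j : ℕ, orderOf g = 2 ^ j) → g ^ k = g)
  (hk₂ : ∀ g : G, Odd (orderOf g) → g ^ k = g⁻¹)

include hk₁ hk₂

theorem twist_coprime : k.Coprime (Nat.card G) := by
  rw [Nat.coprime_comm]
  refine Nat.coprime_of_dvd fun r hr hrG hrk => ?_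
  haveI := Fact.mk hr
  obtain ⟨x, hx⟩ := exists_prime_orderOf_dvd_card' r hrG
  have hxk : x ^ k = 1 := orderOf_dvd_iff_pow_eq_one.1 (hx ▸ hrk)
  have hne : x ≠ 1 := fun h => hr.ne_one (by rw [← hx, h, orderOf_one])
  rcases hr.eq_two_or_odd' with rfl | hodd
  · exact hne ((hk₁ x ⟨1, by rw [hx, pow_one]⟩).symm.trans hxk)
  · exact hne (inv_eq_one.1 ((hk₂ x (hx ▸ hodd)).symm.trans hxk))

theorem twist_twist (g : G) : (g ^ k) ^ k = g := by
  haveI : Fact (Nat.Prime 2) := ⟨Nat.prime_two⟩
  have hu := hk₁ _ (exists_orderOf_pPt (p := 2) g)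
  have hv := hk₂ (pReg 2 g) (Nat.odd_iff.2 (by
    have := not_dvd_orderOf_pReg (p := 2) g; omega))
  have hvi : (pReg 2 g)⁻¹ ^ k = pReg 2 g := by rw [inv_pow, hv, inv_inv]
  conv_lhs => rw [← pPt_mul_pReg (p := 2) g]
  rw [(pPt_commute_pReg g).mul_pow, hu, hv, (pPt_commute_pReg g).inv_right.mul_pow, hu, hvi,
    pPt_mul_pReg]

theorem powTwist_powTwist (χ : IrrCharacter G) :
    powTwist k (twist_coprime hk₁ hk₂) (powTwist k (twist_coprime hk₁ hk₂) χ) = χ :=
  Subtype.ext (funext fun g => by
    show (χ : G → ℂ) ((g ^ k) ^ k) = _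
    rw [twist_twist hk₁ hk₂])

theorem charDegree_powTwist (χ : IrrCharacter G) :
    charDegree (powTwist k (twist_coprime hk₁ hk₂) χ : G → ℂ) = charDegree (χ : G → ℂ) := by
  simp only [charDegree, powTwist_apply, one_pow]

/-- The principal block has a nontrivial fixed character. -/
theorem exists_fixed_principal (hev : 2 ∣ Nat.card G) {M : Ideal AlgInt} (hM : IsPModular 2 M) :
    ∃ χ ∈ principalBlock M G, (χ : G → ℂ) ≠ (fun _ => 1) ∧
      ∀ g : G, (χ : G → ℂ) (g ^ k) = (χ : G → ℂ) g := by
  classical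
  haveI : Fact (Nat.Prime 2) := ⟨Nat.prime_two⟩
  haveI := Fintype.ofFinite G
  have hk := twist_coprime hk₁ hk₂
  set s := (Finset.univ : Finset (IrrCharacter G)).filter fun χ =>
    χ ∈ principalBlock M G ∧ Odd (charDegree (χ : G → ℂ)) with hs
  have heven : (s.card : ZMod 2) = 0 := by
    have h := Cfsg.Agent.S4550.even_odd_degree_count M hM (even_iff_two_dvd.2 hev)
    rw [Nat.card_eq_fintype_card, Fintype.card_subtype] at h
    exact (ZMod.natCast_eq_zero_iff_even).2 h
  rw [card_fixed_cast s (powTwist k hk) (fun χ hχ => by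
      rw [hs, Finset.mem_filter] at hχ ⊢
      exact ⟨Finset.mem_univ _, principal_comp_pow hM hk hχ.2.1,
        by rw [charDegree_powTwist hk₁ hk₂]; exact hχ.2.2⟩)
    (fun χ _ => powTwist_powTwist hk₁ hk₂ χ)] at heven
  set t := s.filter fun χ => powTwist k hk χ = χ with ht
  have h1 : trivChar G ∈ t := by
    rw [ht, hs, Finset.mem_filter, Finset.mem_filter]
    exact ⟨⟨Finset.mem_univ _, trivChar_mem_principal hM, by
      rw [charDegree_eq_of_apply_one (n := 1) (by simp [trivChar_coe])]; exact odd_one⟩,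
      Subtype.ext (funext fun g => by rw [powTwist_apply, trivChar_coe])⟩
  obtain ⟨χ, hχ, hne⟩ : ∃ χ ∈ t, χ ≠ trivChar G := by
    by_contra hne
    push Not at hne
    rw [show t = {trivChar G} from Finset.eq_singleton_iff_unique_mem.2 ⟨h1, hne⟩,
      Finset.card_singleton, Nat.cast_one] at heven
    exact one_ne_zero heven
  rw [ht, hs, Finset.mem_filter, Finset.mem_filter] at hχ
  refine ⟨χ, hχ.1.2.1, fun e => hne (Subtype.ext (e.trans trivChar_coe.symm)), fun g => ?_⟩
  exact congrFun (congrArg Subtype.val hχ.2) g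

/-- A real element of odd order with odd centralizer gives a fixed character of even degree. -/
theorem exists_fixed_even (hreal : HasRealOddCent G) {M : Ideal AlgInt} (hM : IsPModular 2 M) :
    ∃ χ : IrrCharacter G, Even (charDegree (χ : G → ℂ)) ∧
      ∀ g : G, (χ : G → ℂ) (g ^ k) = (χ : G → ℂ) g := by
  classical
  haveI : Fact (Nat.Prime 2) := ⟨Nat.prime_two⟩
  haveI := Fintype.ofFinite G
  obtain ⟨x, hx1, hxo, ⟨g₀, hg₀⟩, hC⟩ := hreal
  by_contra hno
  have hno' : ∀ χ : IrrCharacter G, powTwist k (twist_coprime hk₁ hk₂) χ = χ →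
      Odd (charDegree (χ : G → ℂ)) := fun χ h => Nat.not_even_iff_odd.1 fun he =>
    hno ⟨χ, he, fun g => congrFun (congrArg Subtype.val h) g⟩
  haveI : CharP (resField hM) 2 := inferInstance
  set R := fun χ : IrrCharacter G => res hM ((χ : G → ℂ) x) with hR
  have hreal : ∀ χ : IrrCharacter G, conj ((χ : G → ℂ) x) = (χ : G → ℂ) x := fun χ => by
    rw [← χ.2.isCharacter.apply_inv, ← hg₀, χ.2.isClassFunction]
  have hfix : ∀ χ : IrrCharacter G,
      R (powTwist k (twist_coprime hk₁ hk₂) χ) = R χ := fun χ => by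
    simp only [hR, powTwist_apply, hk₂ x hxo]
    rw [← hg₀, χ.2.isClassFunction]
  have hone : res hM ((Nat.card (centralizer ({x} : Set G)) : ℂ)) = 1 := by
    rw [res_natCast, CharP.cast_eq_mod (resField hM) 2, Nat.odd_iff.1 hC, Nat.cast_one]
  have h1 : ∑ χ : IrrCharacter G, R χ * R χ = 1 := by
    have h := Char.column_orthogonality x x
    rw [if_pos (IsConj.refl x)] at h
    simp only [hreal] at h
    rw [← hone, ← h, res_sum hM _ _ fun χ _ =>
      mul_mem (charVal_mem_locRing hM χ x) (charVal_mem_locRing hM χ x)]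
    exact Finset.sum_congr rfl fun χ _ =>
      (res_mul hM (charVal_mem_locRing hM χ x) (charVal_mem_locRing hM χ x)).symm
  have h0 : ∑ χ : IrrCharacter G, (charDegree (χ : G → ℂ) : resField hM) * R χ = 0 := by
    have h := Char.column_orthogonality (1 : G) x
    rw [if_neg (fun e => hx1 (isConj_one_right.1 e))] at h
    simp only [hreal, apply_one_eq_charDegree] at h
    have h' := congrArg (res hM) h
    rw [res_zero, res_sum hM _ _ fun χ _ =>
      mul_mem (natCast_mem _ _) (charVal_mem_locRing hM χ x)] at h'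
    rw [← h']
    refine Finset.sum_congr rfl fun χ _ => ?_
    rw [res_mul hM (natCast_mem _ _) (charVal_mem_locRing hM χ x), res_natCast]
  rw [sum_eq_sum_fixed Finset.univ (powTwist k (twist_coprime hk₁ hk₂)) (fun _ _ => Finset.mem_univ _)
    (fun χ _ => powTwist_powTwist hk₁ hk₂ χ) _ (fun χ _ => by rw [hfix])] at h1
  rw [sum_eq_sum_fixed Finset.univ (powTwist k (twist_coprime hk₁ hk₂)) (fun _ _ => Finset.mem_univ _)
    (fun χ _ => powTwist_powTwist hk₁ hk₂ χ) _
    (fun χ _ => by rw [hfix, charDegree_powTwist hk₁ hk₂])] at h0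
  have h0' : ∑ χ ∈ (Finset.univ : Finset (IrrCharacter G)).filter
      (fun χ => powTwist k (twist_coprime hk₁ hk₂) χ = χ), R χ = 0 := by
    rw [← h0]
    refine Finset.sum_congr rfl fun χ hχ => ?_
    rw [CharP.cast_eq_mod (resField hM) 2 (charDegree _),
      Nat.odd_iff.1 (hno' χ (Finset.mem_filter.1 hχ).2), Nat.cast_one, one_mul]
  have hsq := CharTwo.sum_sq ((Finset.univ : Finset (IrrCharacter G)).filter
      (fun χ => powTwist k (twist_coprime hk₁ hk₂) χ = χ)) R
  rw [h0', zero_pow two_ne_zero] at hsq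
  refine one_ne_zero (α := resField hM) ?_
  rw [← h1, hsq]
  exact Finset.sum_congr rfl fun χ _ => (pow_two _).symm

end Cfsg.Lib.SimpleAbTwo
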