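import Cfsg.Agent.Lib.SimpleAbTwo.RealElement
import Cfsg.Agent.Lib.SimpleAbTwo.Galois

/-!
# Galois fixed characters of simple groups with abelian Sylow two-subgroups
-/

set_option autoImplicit false
set_option linter.style.haveILetI false

namespace Cfsg.Lib.SimpleAbTwo

open Cfsg

universe u

/-- A character of even degree and a nontrivial member of the principal block are fixed, given the
structure of the nonsolvable involution centralizers. -/
theorem fixed_characters_of_cent {S : Type u} [Group S] [Finite S] [IsSimpleGroup S]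
    (hna : ¬ IsMulCommutative S) (P : Sylow 2 S) (hP : IsMulCommutative P) (M : Ideal Cfsg.AlgInt)
    (hM : Cfsg.IsPModular 2 M) (k : ℕ)
    (hk₁ : ∀ g : S, (∃ j : ℕ, orderOf g = 2 ^ j) → g ^ k = g)
    (hk₂ : ∀ g : S, Odd (orderOf g) → g ^ k = g⁻¹) (hW : Cfsg.Lib.Walter3.CentClause S) :
    (∃ χ₁ : Cfsg.IrrCharacter S, Even (Cfsg.charDegree (χ₁ : S → ℂ)) ∧
        ∀ g : S, (χ₁ : S → ℂ) (g ^ k) = (χ₁ : S → ℂ) g) ∧
      ∃ χ₂ ∈ Cfsg.principalBlock M S, (χ₂ : S → ℂ) ≠ (fun _ => 1) ∧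
        ∀ g : S, (χ₂ : S → ℂ) (g ^ k) = (χ₂ : S → ℂ) g := by
  haveI : Fact (Nat.Prime 2) := ⟨Nat.prime_two⟩
  have hP' : IsMulCommutative ↥(P : Subgroup S) := hP
  have hev : 2 ∣ Nat.card S := by
    obtain ⟨n, hn⟩ := P.isPGroup'.exists_card_eq
    have h4 := Cfsg.Lib.WalterBig.four_le_card hna P hP'
    rw [hn] at h4
    rcases Nat.eq_zero_or_pos n with rfl | hn0
    · norm_num at h4
    exact ((dvd_pow_self 2 hn0.ne').trans (dvd_of_eq hn.symm)).trans (Subgroup.card_subgroup_dvd_card _)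
  exact ⟨exists_fixed_even hk₁ hk₂ (hasRealOddCent (cases hna P hP' hW)) hM,
    exists_fixed_principal hk₁ hk₂ hev hM⟩

end Cfsg.Lib.SimpleAbTwo
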