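import Cfsg.Agent.Lib.SimpleAbTwo.Cases
import Cfsg.Agent.Lib.SimpleAbTwo.Count
import Cfsg.Agent.Lib.ClassSizePSL.Values
import Cfsg.Agent.Lib.Dickson.DihedralMax
import Cfsg.Agent.Lib.Dickson.Involutions
import Cfsg.Agent.Lib.Dickson.Overgroups
import Cfsg.Agent.S0252
import Cfsg.Agent.S0253

/-!
# Simple groups with abelian Sylow two-subgroups have real odd elements with odd centralizers
-/

set_option autoImplicit false
set_option linter.unusedSectionVars false
set_option linter.style.haveILetI false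

namespace Cfsg.Lib.SimpleAbTwo

open Subgroup Cfsg Matrix
open Cfsg.Lib

universe u v

theorem HasRealOddCent.of_equiv {G : Type u} [Group G] {H : Type v} [Group H] (e : G ≃* H)
    (h : HasRealOddCent H) : HasRealOddCent G := by
  obtain ⟨x, hx1, hxo, ⟨g, hg⟩, hC⟩ := h
  refine ⟨e.symm x, fun he => hx1 (by simpa using congrArg e he), by rwa [MulEquiv.orderOf_eq],
    ⟨e.symm g, by rw [← map_inv e.symm g, ← map_mul, ← map_mul, hg, map_inv]⟩, ?_⟩
  suffices hc : Nat.card (centralizer ({e.symm x} : Set G)) = Nat.card (centralizer ({x} : Set H)) by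
    rw [hc]; exact hC
  refine Nat.card_congr (e.toEquiv.subtypeEquiv fun a => ?_)
  simp only [mem_centralizer_singleton_iff, MulEquiv.toEquiv_eq_coe, EquivLike.coe_coe]
  exact ⟨fun h => by simpa using congrArg e h,
    fun h => e.injective (by simpa using h)⟩

section PSL

variable {F : Type} [Field F] [Fintype F]

local notation "PSL2" => ProjectiveSpecialLinearGroup (Fin 2) F

theorem hasRealOddCent_psl {K : ℕ} (h4 : 4 ≤ Fintype.card F) (hK3 : 3 ≤ K) (hodd : Odd K)
    (hK : K = (Fintype.card F - 1) / Nat.gcd 2 (Fintype.card F - 1) ∨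
      K = (Fintype.card F + 1) / Nat.gcd 2 (Fintype.card F - 1)) : HasRealOddCent PSL2 := by
  obtain ⟨x, hx, hc, hp⟩ := ClassSizePSL.exists_semisimple h4 hK3 hK
  obtain ⟨p, hpp, hpc, -⟩ := Cfsg.Lib.Dickson.exists_char (F := F)
  haveI := Fact.mk hpp
  obtain ⟨g, rfl⟩ := QuotientGroup.mk_surjective x
  obtain ⟨w, -, hw⟩ := Cfsg.Lib.Dickson.exists_inverting p g (fun e => by
    rcases (Nat.dvd_prime hpp).1 (orderOf_dvd_of_pow_eq_one e) with e' | e'
    · omega
    · exact hp p hpp hpc (dvd_of_eq e'.symm))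
  exact ⟨_, fun e => by rw [e, orderOf_one] at hx; omega, by rw [hx]; exact hodd, ⟨w, hw⟩,
    by rw [hc]; exact hodd⟩

theorem hasRealOddCent_good {G : Type u} [Group G] (h : IsGoodPSLTwo G) : HasRealOddCent G := by
  obtain ⟨F, i, j, hq, ⟨e⟩⟩ := h
  refine HasRealOddCent.of_equiv e ?_
  rcases hq with ⟨a, ha, hF⟩ | ⟨h8, h5⟩
  · obtain ⟨b, rfl⟩ := Nat.exists_eq_add_of_le ha
    have hq : Fintype.card F = 4 * 2 ^ b := by rw [hF, pow_add]; norm_num
    have hb : 1 ≤ 2 ^ b := Nat.one_le_two_pow
    refine hasRealOddCent_psl (K := Fintype.card F - 1) (by omega) (by omega)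
      (Nat.odd_iff.2 (by omega)) (Or.inl ?_)
    rw [Nat.Coprime.gcd_eq_one (Nat.coprime_two_left.2 (Nat.odd_iff.2 (by omega))), Nat.div_one]
  · have hg : Nat.gcd 2 (Fintype.card F - 1) = 2 := Nat.gcd_eq_left (by omega)
    rcases h8 with h8 | h8
    · exact hasRealOddCent_psl (K := (Fintype.card F - 1) / 2) (by omega) (by omega)
        (Nat.odd_iff.2 (by omega)) (Or.inl (by rw [hg]))
    · exact hasRealOddCent_psl (K := (Fintype.card F + 1) / 2) (by omega) (by omega)
        (Nat.odd_iff.2 (by omega)) (Or.inr (by rw [hg]))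

end PSL

/-- One class of involutions is at most the index of a centralizer. -/
theorem card_sq_le {L : Type u} [Group L] [Fintype L] [DecidableEq L] {z : L}
    (hone : ∀ l : L, l * l = 1 → l ≠ 1 → ∃ c : L, c * z * c⁻¹ = l) :
    (Finset.univ.filter fun l : L => l * l = 1).card ≤ 1 + (centralizer ({z} : Set L)).index := by
  classical
  haveI := Fintype.ofFinite (L ⧸ centralizer ({z} : Set L))
  rw [Subgroup.index, Nat.card_eq_fintype_card]
  refine (Finset.card_le_card (t := insert 1
    (Finset.univ.image fun c : L ⧸ centralizer ({z} : Set L) => c.out * z * c.out⁻¹)) ?_).trans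
    ((Finset.card_insert_le _ _).trans ?_)
  · intro l hl
    rw [Finset.mem_filter] at hl
    rw [Finset.mem_insert, Finset.mem_image]
    by_cases h : l = 1
    · exact Or.inl h
    obtain ⟨c, rfl⟩ := hone l hl.2 h
    obtain ⟨d, hd⟩ := QuotientGroup.mk_out_eq_mul (centralizer ({z} : Set L)) c
    refine Or.inr ⟨QuotientGroup.mk c, Finset.mem_univ _, ?_⟩
    rw [hd, _root_.mul_inv_rev]
    have : (d : L) * z = z * d := mem_centralizer_singleton_iff.1 d.2
    calc c * d * z * ((d : L)⁻¹ * c⁻¹) = c * (d * z) * (d : L)⁻¹ * c⁻¹ := by group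
      _ = c * z * c⁻¹ := by rw [this]; group
  · rw [add_comm]
    exact Nat.add_le_add_left (Finset.card_image_le.trans (le_of_eq Finset.card_univ)) 1

theorem card_sq_alt_five :
    (Finset.univ.filter fun l : alternatingGroup (Fin 5) => l * l = 1).card = 16 := by
  decide +kernel

/-- The square roots of one in `PSL₂(q)`, `q ≡ 3 mod 4`. -/
theorem card_sq_psl {F : Type} [Field F] [Fintype F]
    [Fintype (ProjectiveSpecialLinearGroup (Fin 2) F)] [DecidableEq (ProjectiveSpecialLinearGroup (Fin 2) F)]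
    (h4 : Fintype.card F % 4 = 3) (h7 : 7 ≤ Fintype.card F) :
    2 * (Finset.univ.filter fun l : ProjectiveSpecialLinearGroup (Fin 2) F => l * l = 1).card ≤
      2 + Fintype.card F * (Fintype.card F - 1) := by
  classical
  have hodd : Fintype.card F % 2 = 1 := by omega
  by_cases hz : ∃ z : ProjectiveSpecialLinearGroup (Fin 2) F, z * z = 1 ∧ z ≠ 1
  swap
  · push Not at hz
    have : (Finset.univ.filter fun l : ProjectiveSpecialLinearGroup (Fin 2) F => l * l = 1).card ≤ 1 :=
      Finset.card_le_one.2 fun a ha b hb => by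
        rw [Finset.mem_filter] at ha hb; rw [hz a ha.2, hz b hb.2]
    omega
  obtain ⟨z, hz2, hz1⟩ := hz
  have h := card_sq_le (z := z) fun l hl hl1 => by
    obtain ⟨c, hc⟩ := Cfsg.Lib.Dickson.exists_conj_involution hodd (by rwa [pow_two]) hz1
      (show l ^ 2 = 1 by rwa [pow_two]) hl1
    exact ⟨c⁻¹, by rw [inv_inv]; exact hc⟩
  have hC := (Cfsg.Lib.Dickson.card_centralizer_involution hodd h7 (show z ^ 2 = 1 by rwa [pow_two]) hz1).2 h4
  have hL := Dickson.card_psl_mul (K := F) hodd
  have hi := (centralizer ({z} : Set (ProjectiveSpecialLinearGroup (Fin 2) F))).card_mul_index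
  rw [hC] at hi
  obtain ⟨r, hr⟩ : ∃ r, Fintype.card F = r + 1 := ⟨Fintype.card F - 1, by omega⟩
  rw [hr] at hi hL ⊢
  have e : (r + 1) ^ 2 - 1 = (r + 1 + 1) * r := by
    rw [show (r + 1) ^ 2 = (r + 1 + 1) * r + 1 by ring, Nat.add_sub_cancel]
  rw [e] at hL
  rw [Nat.add_sub_cancel]
  have hI : 2 * (centralizer ({z} : Set (ProjectiveSpecialLinearGroup (Fin 2) F))).index = (r + 1) * r :=
    Nat.eq_of_mul_eq_mul_left (show 0 < r + 1 + 1 by omega) (by nlinarith)
  omega

theorem hasRealOddCent_twoTimes {G : Type u} [Group G] [Finite G] (h : IsTwoTimesPSL G) :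
    HasRealOddCent G := by
  classical
  obtain ⟨t, F, i, j, ht, h3, hone, ⟨e⟩, hord⟩ := h
  haveI := Fintype.ofFinite G
  haveI := Fintype.ofFinite (ProjectiveSpecialLinearGroup (Fin 2) F)
  refine hasRealOddCent_of_count ht hone ?_
  set C := centralizer ({t} : Set G) with hC
  set L := ProjectiveSpecialLinearGroup (Fin 2) F
  have htC : t ∈ C := mem_centralizer_singleton_iff.2 rfl
  have ht1 : (⟨t, htC⟩ : C) ≠ 1 := fun h => by
    rw [show t = 1 from congrArg Subtype.val h, orderOf_one] at ht; omega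
  set n := (Finset.univ.filter fun l : L => l * l = 1).card with hn
  have hj : (commInv t).card + 2 ≤ 2 * n := by
    let φ : C → Multiplicative (ZMod 2) × L := e
    have hφ : Function.Injective φ := e.injective
    set A : Finset ↥C := (Finset.univ : Finset ↥C).filter (fun c : ↥C => c.val ∈ commInv t) with hA
    have hAc : A.card = (commInv t).card := by
      refine Finset.card_bij (fun c _ => (c : G)) (fun c hc => (Finset.mem_filter.1 hc).2)
        (fun a _ b _ h => Subtype.ext h) fun s hs => ⟨⟨s, ?_⟩, ?_, rfl⟩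
      · exact mem_centralizer_singleton_iff.2 (mem_commInv.1 hs).2.2.1
      · rw [hA, Finset.mem_filter]; exact ⟨Finset.mem_univ _, hs⟩
    have hsub : insert (1 : C) (insert ⟨t, htC⟩ A) ⊆ Finset.univ.filter fun c => c * c = 1 := by
      intro c hc
      rw [Finset.mem_filter]
      refine ⟨Finset.mem_univ _, Subtype.ext ?_⟩
      rcases Finset.mem_insert.1 hc with rfl | hc
      · exact one_mul 1
      rcases Finset.mem_insert.1 hc with rfl | hc
      · show t * t = 1
        rw [← pow_two, ← ht]; exact pow_orderOf_eq_one t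
      · exact (mem_commInv.1 (Finset.mem_filter.1 hc).2).1
    have h1 : (Finset.univ.filter fun c : C => c * c = 1).card ≤
        ((Finset.univ : Finset (Multiplicative (ZMod 2))) ×ˢ Finset.univ.filter fun l : L => l * l = 1).card := by
      refine Finset.card_le_card_of_injOn φ (fun c hc => ?_) hφ.injOn
      rw [Finset.mem_coe, Finset.mem_product, Finset.mem_filter]
      refine ⟨Finset.mem_univ _, Finset.mem_univ _, ?_⟩
      have hc' := congrArg (fun c => (φ c).2) (Finset.mem_filter.1 hc).2
      simpa [φ] using hc'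
    rw [Finset.card_product, Finset.card_univ, show Fintype.card (Multiplicative (ZMod 2)) = 2 from rfl,
      ← hn] at h1
    have h2 := Finset.card_le_card hsub
    have hn1 : (⟨t, htC⟩ : C) ∉ A := fun h => (mem_commInv.1 (Finset.mem_filter.1 h).2).2.2.2 rfl
    have hn0 : (1 : C) ∉ insert ⟨t, htC⟩ A := fun h => by
      rcases Finset.mem_insert.1 h with h | h
      · exact ht1 h.symm
      · exact (mem_commInv.1 (Finset.mem_filter.1 h).2).2.1 rfl
    rw [Finset.card_insert_of_notMem hn0, Finset.card_insert_of_notMem hn1, hAc] at h2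
    omega
  have hcardC : Nat.card C = 2 * Nat.card L := by
    rw [Nat.card_congr e.toEquiv, Nat.card_prod, show Nat.card (Multiplicative (ZMod 2)) = 2 from
      (Nat.card_congr Multiplicative.toAdd).trans (Nat.card_zmod 2)]
  have hidx := C.card_mul_index
  rw [hcardC] at hidx
  rcases hord with ⟨m, hm, hF, hG⟩ | ⟨h45, hJ⟩
  · obtain ⟨q, hq⟩ : ∃ q, q = 3 ^ (2 * m + 1) := ⟨_, rfl⟩
    rw [← hq] at hF hG
    have hq27 : 27 ≤ q := by
      rw [hq, show 27 = 3 ^ 3 by norm_num]; exact Nat.pow_le_pow_right (by norm_num) (by omega)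
    have hq4 : q % 4 = 3 := by
      rw [hq, pow_succ, pow_mul, Nat.mul_mod, Nat.pow_mod]; norm_num
    have hns := card_sq_psl (F := F) (by omega) (by omega)
    rw [← hn, hF] at hns
    have hL := Dickson.card_psl_mul (K := F) (by omega)
    rw [hF] at hL
    obtain ⟨r, rfl⟩ : ∃ r, q = r + 1 := ⟨q - 1, by omega⟩
    rw [Nat.add_sub_cancel] at hns hG
    rw [show (r + 1) ^ 2 - 1 = (r + 2) * r by
      rw [show (r + 1) ^ 2 = (r + 2) * r + 1 by ring, Nat.add_sub_cancel]] at hL
    rw [hL, hG] at hidx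
    have hI : C.index = (r + 1) ^ 2 * ((r + 1) * r + 1) :=
      Nat.eq_of_mul_eq_mul_left (show 0 < (r + 1) * ((r + 2) * r) by
        have : 0 < r := by omega
        positivity) (hidx.trans (by ring))
    have hjr : (commInv t).card ≤ (r + 1) * r := by omega
    rw [hI]
    calc 1 + (commInv t).card * (commInv t).card ≤ 1 + (r + 1) * r * ((r + 1) * r) :=
          Nat.add_le_add_left (Nat.mul_le_mul hjr hjr) 1
      _ < (r + 1) ^ 2 * ((r + 1) * r + 1) := by nlinarith
  · obtain ⟨ψ⟩ : Nonempty (L ≃* alternatingGroup (Fin 5)) :=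
      h45.elim Cfsg.Agent.S0252.result Cfsg.Agent.S0253.result
    have hn16 : n = 16 := by
      rw [hn, ← card_sq_alt_five]
      refine Finset.card_equiv ψ.toEquiv fun l => ?_
      simp [← map_mul]
    have hL : Nat.card L = 60 := by
      rw [Nat.card_congr ψ.toEquiv, nat_card_alternatingGroup, Nat.card_eq_fintype_card, Fintype.card_fin]
      rfl
    rw [hL, hJ.2] at hidx
    nlinarith

/-- Every kind has such an element. -/
theorem hasRealOddCent {G : Type u} [Group G] [Finite G] (h : IsGoodPSLTwo G ∨ IsTwoTimesPSL G) :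
    HasRealOddCent G :=
  h.elim hasRealOddCent_good hasRealOddCent_twoTimes

end Cfsg.Lib.SimpleAbTwo
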